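import Cfsg.Agent.AbCentMax.Main

/-!
Assembly: `C(t)` is a maximal subgroup.
-/

set_option autoImplicit false
set_option linter.style.haveILetI false
set_option linter.unusedSectionVars false

namespace Cfsg.Lib.AbCentMax

open Subgroup

universe u v

variable {G : Type u} [Group G] [Finite G]
variable {t : G} {E E₀ : Subgroup G} {F : Type v} [Field F] [Fintype F]
variable {T : Sylow 2 G} {a b n : G}

theorem n_mem_normalizer (h : Hyp t E E₀ F) (S : Sys t E₀ T a b n) :
    n ∈ normalizer ((T : Subgroup G) : Set G) := by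
  refine Cfsg.Lib.ZStarApps.mem_normalizer_of_maps fun x hx => ?_
  have hnt : n * t * n⁻¹ = t := by rw [← (h.comm n (h.le S.nE)).eq, mul_inv_cancel_right]
  have hR : ∀ v, (v = 1 ∨ v = a ∨ v = b ∨ v = a * b) → n * v * n⁻¹ ∈ T := by
    rintro v (rfl | rfl | rfl | rfl)
    · simp
    · rw [S.na]; exact S.bT
    · rw [S.nb]; exact (T : Subgroup G).mul_mem S.aT S.bT
    · rw [show n * (a * b) * n⁻¹ = (n * a * n⁻¹) * (n * b * n⁻¹) by group, S.na, S.nb]
      exact (T : Subgroup G).mul_mem S.bT ((T : Subgroup G).mul_mem S.aT S.bT)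
  obtain ⟨v, hv, r | r⟩ := S.cases x hx
  · rw [r]; exact hR v hv
  · rw [r, show n * (t * v) * n⁻¹ = (n * t * n⁻¹) * (n * v * n⁻¹) by group, hnt]
    exact (T : Subgroup G).mul_mem S.tT (hR v hv)

/-- the centraliser of `t` is maximal -/
theorem centralizer_isCoatom [IsSimpleGroup G] (hna : ¬ IsMulCommutative G) (h : Hyp t E E₀ F)
    (hab : ∀ S : Sylow 2 G, IsMulCommutative (S : Subgroup G)) :
    IsCoatom (centralizer ({t} : Set G)) := by
  classical
  haveI : Fact (Nat.Prime 2) := ⟨Nat.prime_two⟩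
  obtain ⟨T, a, b, n, S⟩ := exists_sys h hab
  obtain ⟨h8, hT8⟩ := three_dvd h S
  -- `t` is not central
  have hnc : ∃ g : G, ¬ Commute g t := by
    by_contra hc
    push Not at hc
    rcases IsSimpleGroup.eq_bot_or_eq_top_of_normal (center G) inferInstance with e | e
    · exact h.t_ne (mem_bot.1 (e ▸ mem_center_iff.2 fun g => (hc g).eq))
    · exact hna ⟨⟨fun x y => (mem_center_iff.1 (e ▸ mem_top y) x)⟩⟩
  have htop : ∀ x, Commute x t → x ∈ (⊤ : Subgroup G) := fun x _ => mem_top x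
  -- all involutions of `T` are conjugate
  obtain ⟨hall, h7⟩ : (∀ x ∈ T, x ≠ 1 → ∃ g, g ∈ normalizer ((T : Subgroup G) : Set G) ∧ g * t * g⁻¹ = x) ∧
      7 ∣ Nat.card ↥(normalizer ((T : Subgroup G) : Set G)) := by
    rcases orbit_dichotomy h S htop with hiso | ⟨h1, h2⟩
    · exfalso
      obtain ⟨N, hN, hNo, hcomm⟩ := Cfsg.Agent.S0215.result T t h.ord S.tT (fun g => hiso g (mem_top g))
      rcases IsSimpleGroup.eq_bot_or_eq_top_of_normal N hN with e | e
      · obtain ⟨g, hg⟩ := hnc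
        refine hg ?_
        have := hcomm g
        rw [e, mem_bot, mul_inv_eq_one] at this
        exact (mul_inv_eq_iff_eq_mul.1 this).symm
      · rw [e, card_top] at hNo
        exact Nat.not_even_iff_odd.2 hNo (even_iff_two_dvd.2 (Dvd.dvd.trans (by norm_num) h8))
    · exact ⟨fun x hx hx1 => let ⟨g, _, hg⟩ := h1 x hx hx1; ⟨g, hg⟩, h2⟩
  refine ⟨fun e => ?_, fun H hH => ?_⟩
  · obtain ⟨g, hg⟩ := hnc
    exact hg (mem_centralizer_singleton_iff.1 (e ▸ mem_top g))
  by_contra hHtop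
  have hC : ∀ x, Commute x t → x ∈ H := fun x hx => hH.le (mem_centralizer_singleton_iff.2 hx.eq)
  have htH : t ∈ H := hC t (Commute.refl t)
  have hTH : (T : Subgroup G) ≤ H := fun x hx => hC x (S.tcomm x hx t S.tT)
  set TH : Sylow 2 H := T.subtype hTH with hTHdef
  rcases orbit_dichotomy h S hC with hiso | ⟨hallH, -⟩
  · obtain ⟨N, hN, hNo, hcomm⟩ := Cfsg.Agent.S0215.result TH (⟨t, htH⟩ : H) (by rw [orderOf_mk]; exact h.ord)
      (mem_subgroupOf.2 S.tT) (fun g hg => Subtype.ext (by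
        push_cast
        exact hiso g g.2 (mem_subgroupOf.1 hg)))
    have hX : N.map H.subtype = ⊥ := by
      refine odd_core_trivial h S ?_ ?_ hall
      · rwa [card_map_of_injective H.subtype_injective]
      · rintro c hc _ ⟨x, hx, rfl⟩
        exact ⟨⟨c, hC c hc⟩ * x * ⟨c, hC c hc⟩⁻¹, hN.conj_mem x hx _, rfl⟩
    rw [map_eq_bot_iff_of_injective _ H.subtype_injective] at hX
    refine hH.not_ge fun g hg => mem_centralizer_singleton_iff.2 ?_
    have := hcomm ⟨g, hg⟩
    rw [hX, mem_bot, mul_inv_eq_one] at this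
    exact ((congrArg Subtype.val (mul_inv_eq_iff_eq_mul.1 this)).symm :)
  -- every involution of `H` is conjugate to `t`
  have hinv : ∀ u : G, u ∈ H → orderOf u = 2 → ∃ p ∈ H, p * t * p⁻¹ = u := by
    intro u hu huo
    obtain ⟨P, hP⟩ := (IsPGroup.of_card (G := zpowers (⟨u, hu⟩ : H)) (n := 1)
      (by rw [Nat.card_zpowers, orderOf_mk, huo, pow_one])).exists_le_sylow
    obtain ⟨k, hk⟩ := MulAction.exists_smul_eq H P TH
    have hmem : k * ⟨u, hu⟩ * k⁻¹ ∈ (TH : Subgroup H) := by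
      rw [← hk, Sylow.coe_subgroup_smul, Subgroup.mem_pointwise_smul_iff_inv_smul_mem]
      simpa [mul_assoc] using hP (mem_zpowers _)
    have hne : (k : G) * u * (k : G)⁻¹ ≠ 1 := fun e => by
      rw [mul_inv_eq_one, mul_eq_left] at e
      rw [e, orderOf_one] at huo
      omega
    obtain ⟨g, hgH, -, hg⟩ := hallH _ (mem_subgroupOf.1 hmem) (by push_cast; exact hne)
    push_cast at hg
    refine ⟨(k : G)⁻¹ * g, mul_mem (inv_mem k.2) hgH, ?_⟩
    rw [show (k : G)⁻¹ * g * t * ((k : G)⁻¹ * g)⁻¹ = (k : G)⁻¹ * (g * t * g⁻¹) * k by group, hg]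
    group
  have hSE : Cfsg.IsStronglyEmbedded H := by
    refine ⟨hHtop, even_iff_two_dvd.2 ?_, fun g hg => ?_⟩
    · have := orderOf_dvd_natCard (G := H) ⟨t, htH⟩
      rwa [orderOf_mk, h.ord] at this
    rw [← Nat.not_even_iff_odd]
    intro he
    obtain ⟨⟨u, hu⟩, huo⟩ := exists_prime_orderOf_dvd_card' 2 he.two_dvd
    rw [orderOf_mk] at huo
    obtain ⟨huH, y, hy, hyu⟩ := mem_inf.1 hu
    have hyo : orderOf y = 2 := by
      rw [← (MulAut.conj g).orderOf_eq y]
      exact hyu ▸ huo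
    obtain ⟨p, hpH, hp⟩ := hinv u huH huo
    obtain ⟨r, hrH, hr⟩ := hinv y hy hyo
    have hgy : g * y * g⁻¹ = p * t * p⁻¹ := hyu.trans hp.symm
    have hc : p⁻¹ * g * r ∈ H := hC _ (by
      show p⁻¹ * g * r * t = t * (p⁻¹ * g * r)
      calc p⁻¹ * g * r * t = p⁻¹ * (g * (r * t * r⁻¹) * g⁻¹) * g * r := by group
        _ = _ := by rw [hr, hgy]; group)
    exact hg (by simpa [mul_assoc] using mul_mem (mul_mem hpH hc) (inv_mem hrH))
  have h504 := card_of_embedded hna hSE T hT8
  -- the normaliser of `T` has index at most 3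
  set N := normalizer ((T : Subgroup G) : Set G) with hN
  have h168 : 168 ∣ Nat.card N := by
    have d8 : 8 ∣ Nat.card N := hT8 ▸ card_dvd_of_le le_normalizer
    have d3 : 3 ∣ Nat.card N := by
      have := orderOf_dvd_natCard (G := N) ⟨n, n_mem_normalizer h S⟩
      rwa [orderOf_mk, S.no] at this
    have := (Nat.Coprime.mul_dvd_of_dvd_of_dvd (by norm_num) (Nat.Coprime.mul_dvd_of_dvd_of_dvd (by norm_num) d8 d3) h7 :
      8 * 3 * 7 ∣ Nat.card N)
    exact this
  have hidx : N.index ∣ 3 := by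
    obtain ⟨c, hc⟩ := h168
    have := N.card_mul_index
    rw [h504, hc, mul_assoc, show 504 = 168 * 3 from rfl] at this
    exact Dvd.intro_left c (Nat.eq_of_mul_eq_mul_left (by norm_num) this)
  have hNtop : N ≠ ⊤ := by
    intro e
    haveI : (T : Subgroup G).Normal := normalizer_eq_top_iff.1 e
    rcases IsSimpleGroup.eq_bot_or_eq_top_of_normal (T : Subgroup G) inferInstance with e' | e'
    · rw [e', card_bot] at hT8
      omega
    · rw [e', card_top] at hT8
      omega
  have hinj : Function.Injective (MulAction.toPermHom G (G ⧸ N)) := by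
    rw [← MonoidHom.ker_eq_bot_iff, ← normalCore_eq_ker]
    refine (IsSimpleGroup.eq_bot_or_eq_top_of_normal N.normalCore inferInstance).resolve_right fun e => hNtop ?_
    exact top_le_iff.1 (e ▸ normalCore_le N)
  have hle := Nat.card_le_card_of_injective _ hinj
  rw [Nat.card_perm, h504] at hle
  have h6 : (Nat.card (G ⧸ N)).factorial ≤ 6 :=
    (Nat.factorial_le (show Nat.card (G ⧸ N) ≤ 3 from Nat.le_of_dvd (by norm_num) hidx)).trans_eq rfl
  omega

end Cfsg.Lib.AbCentMax
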