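import Cfsg.Agent.AbCentMax.Setup
import Cfsg.Agent.TwoTimesPSL.TwoPart
import Cfsg.Agent.InvolCalc.ZStarApps

/-!
The Sylow 2-subgroup `⟨t⟩ × {1, a, b, ab}` and the element of order 3 permuting `a, b, ab`.
-/

set_option autoImplicit false
set_option linter.style.haveILetI false
set_option linter.unusedSectionVars false

namespace Cfsg.Lib.AbCentMax

open Subgroup Cfsg.Lib.TwoTimesPSL

universe u v

variable {G : Type u} [Group G] [Finite G]

/-- The frame. -/
structure Sys (t : G) (E₀ : Subgroup G) (T : Sylow 2 G) (a b n : G) : Prop where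
  tT : t ∈ T
  tcomm : ∀ x ∈ T, ∀ y ∈ T, Commute x y
  aE : a ∈ E₀
  bE : b ∈ E₀
  nE : n ∈ E₀
  ao : orderOf a = 2
  bo : orderOf b = 2
  ne : a ≠ b
  aT : a ∈ T
  bT : b ∈ T
  cases : ∀ x ∈ T, ∃ v, (v = 1 ∨ v = a ∨ v = b ∨ v = a * b) ∧ (x = v ∨ x = t * v)
  na : n * a * n⁻¹ = b
  nb : n * b * n⁻¹ = a * b
  no : orderOf n = 3

variable {t : G} {E E₀ : Subgroup G} {F : Type v} [Field F] [Fintype F] (h : Hyp t E E₀ F)
include h

theorem exists_sys (hab : ∀ S : Sylow 2 G, IsMulCommutative (S : Subgroup G)) :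
    ∃ (T : Sylow 2 G) (a b n : G), Sys t E₀ T a b n := by
  classical
  haveI : Fact (Nat.Prime 2) := ⟨Nat.prime_two⟩
  obtain ⟨f⟩ := h.iso
  obtain ⟨S₀⟩ : Nonempty (Sylow 2 E₀) := inferInstance
  set R : Subgroup G := (S₀ : Subgroup E₀).map E₀.subtype with hR
  have hR2 : IsPGroup 2 R := S₀.isPGroup'.map _
  have hRE : R ≤ E₀ := map_subtype_le _
  have htR : zpowers t ≤ normalizer (R : Set G) := by
    refine le_trans (zpowers_le.2 ?_) (centralizer_le_normalizer _)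
    exact mem_centralizer_iff.2 fun x hx => ((h.comm x (h.le (hRE hx))).symm).eq
  obtain ⟨T, hT⟩ := ((IsPGroup.of_card (G := zpowers t) (n := 1) (by rw [Nat.card_zpowers, h.ord, pow_one])).to_sup_of_normal_right' hR2 htR).exists_le_sylow
  have htT : t ∈ T := hT (mem_sup_left (mem_zpowers t))
  have hRT : R ≤ (T : Subgroup G) := hT.trans' le_sup_right
  have hcomm : ∀ x ∈ T, ∀ y ∈ T, Commute x y := fun x hx y hy => by
    haveI := hab T
    exact congrArg Subtype.val (mul_comm' (⟨x, hx⟩ : (T : Subgroup G)) ⟨y, hy⟩)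
  -- the part of a 2-group above `R` inside `E₀` is `R`
  have hmax : ∀ Q : Subgroup G, IsPGroup 2 Q → R ≤ Q → ∀ x ∈ Q, x ∈ E₀ → x ∈ R := by
    intro Q hQ hRQ x hxQ hxE
    have h2 : IsPGroup 2 (Q.subgroupOf E₀) := hQ.comap_of_injective _ E₀.subtype_injective
    have := S₀.is_maximal' h2 (fun y hy => hRQ (mem_map_of_mem _ hy))
    exact ⟨⟨x, hxE⟩, this ▸ (show (⟨x, hxE⟩ : E₀) ∈ Q.subgroupOf E₀ from hxQ), rfl⟩
  have hcP : ∀ x ∈ (S₀ : Subgroup E₀), ∀ y ∈ (S₀ : Subgroup E₀), x * y = y * x := fun x hx y hy =>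
    Subtype.ext (hcomm _ (hRT (mem_map_of_mem _ hx)) _ (hRT (mem_map_of_mem _ hy))).eq
  haveI hKP := psl_sylow_klein h.odd (S₀.mapSurjective (f := f.toMonoidHom) f.surjective) (by
    rintro _ ⟨x, hx, rfl⟩ _ ⟨y, hy, rfl⟩
    rw [← map_mul, ← map_mul, hcP x hx y hy])
  have hcard : Nat.card R = 4 := by
    rw [hR, card_map_of_injective E₀.subtype_injective]
    rw [← hKP.card_four]
    exact (card_map_of_injective f.injective (K := (S₀ : Subgroup E₀))).symm
  have hsq : ∀ x ∈ R, x * x = 1 := by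
    rintro _ ⟨x, hx, rfl⟩
    have := IsKleinFour.mul_self (⟨f x, mem_map_of_mem _ hx⟩ :
      ((S₀.mapSurjective (f := f.toMonoidHom) f.surjective : Sylow 2 _) : Subgroup _))
    have h1 : f (x * x) = f 1 := by rw [map_mul, map_one]; exact congrArg Subtype.val this
    exact congrArg Subtype.val (f.injective h1)
  have hord : ∀ x ∈ R, x ≠ 1 → orderOf x = 2 := fun x hx hx1 =>
    orderOf_eq_prime (by rw [pow_two, hsq x hx]) hx1
  haveI := Fintype.ofFinite R
  obtain ⟨a', ha'⟩ := Fintype.exists_ne_of_one_lt_card (show 1 < Fintype.card R by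
    rw [← Nat.card_eq_fintype_card, hcard]; norm_num) (1 : R)
  obtain ⟨b', -, hb'⟩ := Finset.exists_mem_notMem_of_card_lt_card (s := ({1, a'} : Finset R))
    (t := Finset.univ) (by
      rw [Finset.card_univ, ← Nat.card_eq_fintype_card, hcard]
      exact lt_of_le_of_lt Finset.card_le_two (by norm_num))
  simp only [Finset.mem_insert, Finset.mem_singleton, not_or] at hb'
  obtain ⟨a, haR⟩ := a'
  obtain ⟨b, hbR⟩ := b'
  have ha1 : a ≠ 1 := fun e => ha' (Subtype.ext e)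
  have hb1 : b ≠ 1 := fun e => hb'.1 (Subtype.ext e)
  have hne : a ≠ b := fun e => hb'.2 (Subtype.ext e.symm)
  have hao := hord a haR ha1
  have hbo := hord b hbR hb1
  have hainv : a⁻¹ = a := inv_eq_of_mul_eq_one_right (hsq a haR)
  have hab' : a * b ≠ 1 := fun e => hne (by rw [eq_inv_of_mul_eq_one_right e, hainv])
  have hRcases : ∀ x ∈ R, x = 1 ∨ x = a ∨ x = b ∨ x = a * b := by
    intro x hx
    by_contra hcon
    push Not at hcon
    have h5 : ({1, ⟨a, haR⟩, ⟨b, hbR⟩, ⟨a * b, mul_mem haR hbR⟩, ⟨x, hx⟩} : Finset R).card = 5 := by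
      rw [Finset.card_insert_of_notMem, Finset.card_insert_of_notMem, Finset.card_insert_of_notMem,
        Finset.card_insert_of_notMem, Finset.card_singleton] <;>
        simp [Subtype.ext_iff, ha1.symm, hb1.symm, hne, hab'.symm, Ne.symm hcon.1, Ne.symm hcon.2.1,
          Ne.symm hcon.2.2.1, Ne.symm hcon.2.2.2, ha1, hb1, mul_eq_left]
    have := Finset.card_le_univ ({1, ⟨a, haR⟩, ⟨b, hbR⟩, ⟨a * b, mul_mem haR hbR⟩, ⟨x, hx⟩} : Finset R)
    rw [h5, ← Nat.card_eq_fintype_card, hcard] at this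
    omega
  have haE := hRE haR
  have hbE := hRE hbR
  have hcab : Commute a b := hcomm a (hRT haR) b (hRT hbR)
  -- centraliser of `R` in `E₀`
  have hcent : ∀ c ∈ E₀, Commute c a → Commute c b → c ∈ R := by
    intro c hcE hca hcb
    obtain ⟨u, s, hu, hs, hus, he, hug, hsg⟩ := exists_split c
    have hz : ∀ z ∈ zpowers c, Commute z a ∧ Commute z b ∧ z ∈ E₀ := by
      rintro _ ⟨i, rfl⟩
      exact ⟨hca.zpow_left i, hcb.zpow_left i, zpow_mem hcE i⟩
    obtain ⟨hsa, hsb, hsE⟩ := hz s hsg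
    have hs1 := h.eq_one_of_comm haE hao hbE hbo hne hcab hsE hs hsa hsb
    obtain ⟨hua, hub, huE⟩ := hz u hug
    rw [← he, hs1, mul_one]
    have hn : zpowers u ≤ normalizer (R : Set G) := by
      refine le_trans (zpowers_le.2 ?_) (centralizer_le_normalizer _)
      refine mem_centralizer_iff.2 fun x hx => ?_
      rcases hRcases x hx with rfl | rfl | rfl | rfl
      · simp
      · exact hua.symm.eq
      · exact hub.symm.eq
      · exact ((hua.symm).mul_left hub.symm).eq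
    exact hmax _ (hu.isPGroup.to_sup_of_normal_right' hR2 hn) le_sup_right u (mem_sup_left (mem_zpowers u)) huE
  -- the element of order 3
  obtain ⟨g, hg, hga⟩ := h.conj haE hao hbE hbo
  haveI : IsMulCommutative (S₀ : Subgroup E₀) := ⟨⟨fun x y => Subtype.ext (hcP x x.2 y y.2)⟩⟩
  obtain ⟨a₀, ha₀, ha₀e⟩ := haR
  obtain ⟨b₀, hb₀, hb₀e⟩ := hbR
  have ha₀e' : (a₀ : G) = a := ha₀e
  have hb₀e' : (b₀ : G) = b := hb₀e
  have hga₀ : (⟨g, hg⟩ : E₀) * a₀ * (⟨g, hg⟩ : E₀)⁻¹ = b₀ := Subtype.ext (by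
    push_cast; rw [ha₀e', hb₀e', hga])
  obtain ⟨m', hm', em⟩ := S₀.conj_eq_normalizer_conj_of_mem a₀ (⟨g, hg⟩ : E₀)⁻¹ ha₀
    (by rw [inv_inv, hga₀]; exact hb₀)
  rw [inv_inv, hga₀] at em
  set m : G := ((m'⁻¹ : E₀) : G) with hmdef
  have hmE : m ∈ E₀ := (m'⁻¹).2
  have hma : m * a * m⁻¹ = b := by
    have := congrArg Subtype.val em
    push_cast at this
    rw [ha₀e', hb₀e'] at this
    rw [hmdef]; push_cast; rw [inv_inv, ← this]
  have hmR : ∀ x ∈ R, m * x * m⁻¹ ∈ R := by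
    rintro _ ⟨x, hx, rfl⟩
    exact ⟨_, (mem_normalizer_iff.1 (inv_mem hm') x).1 hx, rfl⟩
  have hmb : m * b * m⁻¹ = a * b := by
    rcases hRcases _ (hmR b ⟨b₀, hb₀, hb₀e⟩) with e | e | e | e
    · exact absurd (by simpa [mul_inv_eq_one] using e) hb1
    · -- `m` exchanges `a` and `b`: impossible
      exfalso
      obtain ⟨u, s, hu, hs, hus, he, hug, hsg⟩ := exists_split m
      have hsub : ∀ z ∈ zpowers m, z ∈ E₀ ∧ z ∈ normalizer (R : Set G) := fun z hz =>
        ⟨(zpowers_le.2 hmE) hz, (zpowers_le.2 (Cfsg.Lib.ZStarApps.mem_normalizer_of_maps hmR)) hz⟩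
      have huR := hmax _ (hu.isPGroup.to_sup_of_normal_right' hR2 (zpowers_le.2 (hsub u hug).2)) le_sup_right u
        (mem_sup_left (mem_zpowers u)) (hsub u hug).1
      have hsa : s * a * s⁻¹ = b := by
        rw [← hma]
        have hm' : m = s * u := he ▸ hus.eq
        rw [hm', show s * u * a * (s * u)⁻¹ = s * (u * a * u⁻¹) * s⁻¹ by group,
          (hcomm u (hRT huR) a (hRT ⟨a₀, ha₀, ha₀e⟩)).eq, mul_inv_cancel_right]
      have hsb : s * b * s⁻¹ = a := by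
        rw [← e]
        have hm' : m = s * u := he ▸ hus.eq
        rw [hm', show s * u * b * (s * u)⁻¹ = s * (u * b * u⁻¹) * s⁻¹ by group,
          (hcomm u (hRT huR) b (hRT ⟨b₀, hb₀, hb₀e⟩)).eq, mul_inv_cancel_right]
      have hss : Commute (s * s) a := mul_inv_eq_iff_eq_mul.1 (by
        rw [show s * s * a * (s * s)⁻¹ = s * (s * a * s⁻¹) * s⁻¹ by group, hsa, hsb])
      obtain ⟨k, hk⟩ := hs
      have hs' : s = (s * s) ^ (k + 1) := by
        rw [← pow_two, ← pow_mul, show 2 * (k + 1) = orderOf s + 1 by omega, pow_succ, pow_orderOf_eq_one, one_mul]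
      have : Commute s a := hs' ▸ hss.pow_left (k + 1)
      rw [this.eq, mul_inv_cancel_right] at hsa
      exact hne hsa
    · exact absurd (mul_left_cancel (mul_right_cancel (e.trans hma.symm))) hne.symm
    · exact e
  obtain ⟨u, s, hu, hs, hus, he, hug, hsg⟩ := exists_split m
  have huR := hmax _ (hu.isPGroup.to_sup_of_normal_right' hR2
    (zpowers_le.2 ((zpowers_le.2 (Cfsg.Lib.ZStarApps.mem_normalizer_of_maps hmR)) hug))) le_sup_right u
    (mem_sup_left (mem_zpowers u)) ((zpowers_le.2 hmE) hug)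
  have hm' : m = s * u := he ▸ hus.eq
  have hna : s * a * s⁻¹ = b := by
    rw [← hma, hm', show s * u * a * (s * u)⁻¹ = s * (u * a * u⁻¹) * s⁻¹ by group,
      (hcomm u (hRT huR) a (hRT ⟨a₀, ha₀, ha₀e⟩)).eq, mul_inv_cancel_right]
  have hnb : s * b * s⁻¹ = a * b := by
    rw [← hmb, hm', show s * u * b * (s * u)⁻¹ = s * (u * b * u⁻¹) * s⁻¹ by group,
      (hcomm u (hRT huR) b (hRT ⟨b₀, hb₀, hb₀e⟩)).eq, mul_inv_cancel_right]
  have hnab : s * (a * b) * s⁻¹ = a := by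
    rw [show s * (a * b) * s⁻¹ = (s * a * s⁻¹) * (s * b * s⁻¹) by group, hna, hnb, hcab.eq, ← mul_assoc,
      hsq b ⟨b₀, hb₀, hb₀e⟩, one_mul]
  have hsE : s ∈ E₀ := (zpowers_le.2 hmE) hsg
  have h3a : Commute (s * s * s) a := mul_inv_eq_iff_eq_mul.1 (by
    rw [show s * s * s * a * (s * s * s)⁻¹ = s * (s * (s * a * s⁻¹) * s⁻¹) * s⁻¹ by group, hna, hnb, hnab])
  have h3b : Commute (s * s * s) b := mul_inv_eq_iff_eq_mul.1 (by
    rw [show s * s * s * b * (s * s * s)⁻¹ = s * (s * (s * b * s⁻¹) * s⁻¹) * s⁻¹ by group, hnb, hnab, hna])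
  have hs3 : orderOf s = 3 := by
    haveI : Fact (Nat.Prime 3) := ⟨Nat.prime_three⟩
    have h3 : s ^ 3 = s * s * s := by rw [pow_succ, pow_two]
    refine orderOf_eq_prime ?_ fun e => hne (by rw [e] at hna; simpa using hna)
    refine h.eq_one_of_comm haE hao hbE hbo hne hcab (pow_mem hsE 3) ?_ (h3 ▸ h3a) (h3 ▸ h3b)
    exact hs.of_dvd_nat (orderOf_pow_dvd 3)
  refine ⟨T, a, b, s, ⟨htT, hcomm, haE, hbE, hsE, hao, hbo, hne, hRT ⟨a₀, ha₀, ha₀e⟩, hRT ⟨b₀, hb₀, hb₀e⟩, ?_, hna, hnb, hs3⟩⟩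
  -- the Sylow subgroup
  suffices key : ∀ y ∈ T, y ∈ E → y ∈ R by
    intro x hx
    obtain ⟨e, he', hxe | hxe⟩ := h.split x (hcomm x hx t htT)
    · exact ⟨x, hRcases x (key x hx (hxe ▸ he')), Or.inl rfl⟩
    · have heT : e ∈ T := by
        have : t⁻¹ * x ∈ (T : Subgroup G) := mul_mem (inv_mem htT) hx
        rwa [hxe, inv_mul_cancel_left] at this
      exact ⟨e, hRcases e (key e heT he'), Or.inr hxe⟩
  by_contra hcon
  push Not at hcon
  obtain ⟨y₀, hy₀T, hy₀E, hy₀R⟩ := hcon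
  obtain ⟨k, hk⟩ := IsTwoEl.of_mem T.isPGroup' hy₀T
  have hex : ∃ j, y₀ ^ 2 ^ j ∈ R := ⟨k, by rw [hk]; exact one_mem _⟩
  have hj0 : Nat.find hex ≠ 0 := fun e => hy₀R (by
    have := Nat.find_spec hex; rwa [e, pow_zero, pow_one] at this)
  obtain ⟨j, hj⟩ := Nat.exists_eq_succ_of_ne_zero hj0
  set y := y₀ ^ 2 ^ j with hy
  have hyR : y ∉ R := Nat.find_min hex (by omega)
  have hy2 : y * y ∈ R := by
    have := Nat.find_spec hex
    rw [hj, pow_succ, pow_mul, pow_two] at this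
    exact this
  have hyT : y ∈ T := Subgroup.pow_mem (T : Subgroup G) hy₀T _
  have hyE : y ∈ E := pow_mem hy₀E _
  have hsT : ∀ x ∈ R, s * x * s⁻¹ ∈ R := fun x hx =>
    (mem_normalizer_iff.1 ((zpowers_le.2 (Cfsg.Lib.ZStarApps.mem_normalizer_of_maps hmR)) hsg) x).1 hx
  have hc : s * y * s⁻¹ * y⁻¹ ∈ R := by
    refine hcent _ ?_ ?_ ?_
    · have h1 := h.norm y hyE s⁻¹ (inv_mem hsE)
      rw [show s * y * s⁻¹ * y⁻¹ = s * (y * s⁻¹ * y⁻¹) by group]
      exact mul_mem hsE h1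
    all_goals
      refine Commute.mul_left ?_ (hcomm _ ((T : Subgroup G).inv_mem hyT) _ (hRT ?_))
    · have hc1 : Commute y (a * b) := hcomm y hyT _ (hRT (mul_mem ⟨a₀, ha₀, ha₀e⟩ ⟨b₀, hb₀, hb₀e⟩))
      have := hc1.map (MulAut.conj s).toMonoidHom
      simpa [hnab] using this
    · exact ⟨a₀, ha₀, ha₀e⟩
    · have hc1 : Commute y a := hcomm y hyT _ (hRT ⟨a₀, ha₀, ha₀e⟩)
      have := hc1.map (MulAut.conj s).toMonoidHom
      simpa [hna] using this
    · exact ⟨b₀, hb₀, hb₀e⟩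
  set c := s * y * s⁻¹ * y⁻¹ with hcdef
  have hsy : s * y * s⁻¹ = c * y := by rw [hcdef]; group
  have hy1T : s * y * s⁻¹ ∈ T := hsy ▸ (T : Subgroup G).mul_mem (hRT hc) hyT
  have hy2T : s * (s * y * s⁻¹) * s⁻¹ ∈ T := by
    rw [hsy, show s * (c * y) * s⁻¹ = (s * c * s⁻¹) * (s * y * s⁻¹) by group]
    exact (T : Subgroup G).mul_mem (hRT (hsT c hc)) hy1T
  set y₁ := s * y * s⁻¹
  set y₂ := s * y₁ * s⁻¹
  set z := y * y₁ * y₂ with hz
  have hs3' : s * y₂ * s⁻¹ = y := by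
    show s * (s * (s * y * s⁻¹) * s⁻¹) * s⁻¹ = y
    have e3 : s * s * s = 1 := by rw [← pow_two, ← pow_succ, show 2 + 1 = orderOf s by omega, pow_orderOf_eq_one]
    rw [show s * (s * (s * y * s⁻¹) * s⁻¹) * s⁻¹ = (s * s * s) * y * (s * s * s)⁻¹ by group, e3]; simp
  have hzT : z ∈ T := (T : Subgroup G).mul_mem (mul_mem hyT hy1T) hy2T
  have hsz : s * z * s⁻¹ = z := by
    rw [hz, show s * (y * y₁ * y₂) * s⁻¹ = y₁ * y₂ * (s * y₂ * s⁻¹) by
      show _ = (s * y * s⁻¹) * (s * y₁ * s⁻¹) * _; group, hs3', mul_assoc y y₁ y₂]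
    exact (hcomm _ ((T : Subgroup G).mul_mem hy1T hy2T) _ hyT).eq
  have hzE : z ∈ E := by
    have hsE' := h.le hsE
    exact mul_mem (mul_mem hyE (mul_mem (mul_mem hsE' hyE) (inv_mem hsE')))
      (mul_mem (mul_mem hsE' (mul_mem (mul_mem hsE' hyE) (inv_mem hsE'))) (inv_mem hsE'))
  have hzR : z ∉ R := by
    intro hz'
    have e : z = (y * y) * y * (c * (s * c * s⁻¹) * c) := by
      have h1 : y₂ = (s * c * s⁻¹) * (c * y) := by
        show s * y₁ * s⁻¹ = _
        rw [hsy, show s * (c * y) * s⁻¹ = (s * c * s⁻¹) * (s * y * s⁻¹) by group, ← hsy]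
      rw [hz, h1, hsy]
      have c1 := (hcomm y hyT c (hRT hc)).eq
      have c2 := (hcomm y hyT _ (hRT (hsT c hc))).eq
      generalize s * c * s⁻¹ = d at c2
      calc y * (c * y) * (d * (c * y)) = y * (y * c) * (d * (y * c)) := by rw [c1]
        _ = y * y * c * (d * y) * c := by group
        _ = y * y * c * (y * d) * c := by rw [c2]
        _ = y * y * (c * y) * d * c := by group
        _ = y * y * (y * c) * d * c := by rw [c1]
        _ = _ := by group
    rw [e] at hz'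
    exact hyR ((mul_mem_cancel_left hy2).1 ((mul_mem_cancel_right (mul_mem (mul_mem hc (hsT c hc)) hc)).1 hz'))
  have hz2 : z * z = 1 := by
    have hzz : z * z ∈ R := by
      have hyy : ∀ x, x * x ∈ R → (s * x * s⁻¹) * (s * x * s⁻¹) ∈ R := fun x hx => by
        rw [show (s * x * s⁻¹) * (s * x * s⁻¹) = s * (x * x) * s⁻¹ by group]; exact hsT _ hx
      have c01 := hcomm y hyT y₁ hy1T
      have c012 := hcomm (y * y₁) ((T : Subgroup G).mul_mem hyT hy1T) y₂ hy2T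
      rw [hz, ← pow_two, c012.mul_pow, c01.mul_pow, pow_two, pow_two, pow_two]
      exact mul_mem (mul_mem hy2 (hyy y hy2)) (hyy y₁ (hyy y hy2))
    have hfix : s * (z * z) * s⁻¹ = z * z := by
      rw [show s * (z * z) * s⁻¹ = (s * z * s⁻¹) * (s * z * s⁻¹) by group, hsz]
    rcases hRcases _ hzz with e | e | e | e
    · exact e
    · exfalso; rw [e, hna] at hfix; exact hne hfix.symm
    · exfalso; rw [e, hnb] at hfix; exact ha1 (mul_eq_right.1 hfix)
    · exfalso; rw [e, hnab] at hfix; exact hb1 (mul_eq_left.1 hfix.symm)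
  have hzE₀ : z ∉ E₀ := fun hzE' => hzR (hmax _ T.isPGroup' hRT z hzT hzE')
  -- `z` is isolated in `E₀⟨z⟩`
  have hzinv : z⁻¹ = z := inv_eq_of_mul_eq_one_right hz2
  let X : Subgroup G :=
    { carrier := {x | x ∈ E₀ ∨ x * z ∈ E₀}
      one_mem' := Or.inl (one_mem _)
      mul_mem' := by
        rintro x₁ x₂ (h1 | h1) (h2 | h2)
        · exact Or.inl (mul_mem h1 h2)
        · exact Or.inr (by rw [mul_assoc]; exact mul_mem h1 h2)
        · refine Or.inr ?_
          rw [show x₁ * x₂ * z = (x₁ * z) * (z⁻¹ * x₂ * z) by group]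
          exact mul_mem h1 (h.norm' hzE h2)
        · refine Or.inl ?_
          rw [show x₁ * x₂ = (x₁ * z) * (z⁻¹ * (x₂ * z) * z⁻¹) by group]
          refine mul_mem h1 ?_
          nth_rw 2 [hzinv]
          exact h.norm' hzE h2
      inv_mem' := by
        rintro x (h1 | h1)
        · exact Or.inl (inv_mem h1)
        · refine Or.inr ?_
          have := h.norm z hzE _ (inv_mem h1)
          rw [show z * (x * z)⁻¹ * z⁻¹ = z * z⁻¹ * x⁻¹ * z⁻¹ by group, mul_inv_cancel, one_mul, hzinv] at this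
          exact this }
  have hzX : z ∈ X := Or.inr (by rw [hz2]; exact one_mem _)
  obtain ⟨P, hP⟩ := (T.isPGroup'.comap_of_injective X.subtype X.subtype_injective).exists_le_sylow
  have hPR : R ≤ (P : Subgroup X).map X.subtype := fun x hx =>
    ⟨⟨x, Or.inl (hRE hx)⟩, hP (mem_subgroupOf.2 (hRT hx) : (⟨x, Or.inl (hRE hx)⟩ : X) ∈ _), rfl⟩
  have hzP : (⟨z, hzX⟩ : X) ∈ P := hP (hzT : z ∈ (T : Subgroup G))
  have hPT : ∀ x : X, x ∈ P → (x : G) ∈ T := by
    intro x hx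
    have hxP : (x : G) ∈ (P : Subgroup X).map X.subtype := mem_map_of_mem _ hx
    rcases x.2 with h1 | h1
    · exact hRT (hmax _ (P.isPGroup'.map _) hPR _ hxP h1)
    · have := hRT (hmax _ (P.isPGroup'.map _) hPR _ (mul_mem hxP ⟨_, hzP, rfl⟩) h1)
      have e := (T : Subgroup G).mul_mem this (inv_mem hzT)
      simp only [Subgroup.coe_subtype, mul_inv_cancel_right] at e
      exact e
  have hconj : ∀ g : X, g * ⟨z, hzX⟩ * g⁻¹ ∈ P → g * ⟨z, hzX⟩ * g⁻¹ = (⟨z, hzX⟩ : X) := by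
    intro g hgP
    haveI : IsMulCommutative (P : Subgroup X) := ⟨⟨fun x w => Subtype.ext (Subtype.ext
      (hcomm _ (hPT x x.2) _ (hPT w w.2)).eq)⟩⟩
    obtain ⟨k, hk, ek⟩ := P.conj_eq_normalizer_conj_of_mem (⟨z, hzX⟩ : X) g⁻¹ hzP (by rwa [inv_inv])
    rw [inv_inv] at ek
    rw [ek]
    set w : G := ((k⁻¹ : X) : G) with hw
    have hwN : ∀ x ∈ R, w * x * w⁻¹ ∈ R := by
      intro x hx
      obtain ⟨x', hx', rfl⟩ := hPR hx
      have := (mem_normalizer_iff.1 (inv_mem hk) x').1 hx'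
      simp only [Subgroup.coe_subtype] at *
      refine hmax _ (P.isPGroup'.map _) hPR _ ⟨_, this, rfl⟩ ?_
      rcases (k⁻¹).2 with h1 | h1
      · exact mul_mem (mul_mem h1 (hRE hx)) (inv_mem h1)
      · rw [show w * (x' : G) * w⁻¹ = (w * z) * (z⁻¹ * x' * z) * (w * z)⁻¹ by group]
        exact mul_mem (mul_mem h1 (h.norm' hzE (hRE hx))) (inv_mem h1)
    obtain ⟨w₀, hw₀E, hw₀⟩ : ∃ w₀ ∈ E₀, w = w₀ ∨ w = w₀ * z := by
      rcases (k⁻¹).2 with h1 | h1
      · exact ⟨w, h1, Or.inl rfl⟩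
      · exact ⟨w * z, h1, Or.inr (by rw [mul_assoc, hz2, mul_one])⟩
    have hzc : ∀ x ∈ R, z * x * z⁻¹ = x := fun x hx => by
      rw [(hcomm z hzT x (hRT hx)).eq, mul_inv_cancel_right]
    have hw₀N : ∀ x ∈ R, w₀ * x * w₀⁻¹ ∈ R := by
      intro x hx
      rcases hw₀ with e | e
      · exact e ▸ hwN x hx
      · have := hwN x hx
        rwa [e, show w₀ * z * x * (w₀ * z)⁻¹ = w₀ * (z * x * z⁻¹) * w₀⁻¹ by group, hzc x hx] at this
    -- `w₀` commutes with `z`
    have hfixpt : ∀ w' ∈ E₀, (∀ x ∈ R, w' * x * w'⁻¹ ∈ R) → w' * a * w'⁻¹ = a → Commute w' z := by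
      intro w' hw'E hw'N hw'a
      have hw'b : w' * b * w'⁻¹ = b ∨ w' * b * w'⁻¹ = a * b := by
        rcases hRcases _ (hw'N b ⟨b₀, hb₀, hb₀e⟩) with e | e | e | e
        · exact absurd (by simpa [mul_inv_eq_one] using e) hb1
        · exact absurd (mul_left_cancel (mul_right_cancel (e.trans hw'a.symm))) hne.symm
        · exact Or.inl e
        · exact Or.inr e
      obtain ⟨u', s', hu', hs', hus', he', hug', hsg'⟩ := exists_split w'
      have hnorm' := zpowers_le.2 (Cfsg.Lib.ZStarApps.mem_normalizer_of_maps hw'N)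
      have hu'R := hmax _ (hu'.isPGroup.to_sup_of_normal_right' hR2 (zpowers_le.2 (hnorm' hug'))) le_sup_right u'
        (mem_sup_left (mem_zpowers u')) ((zpowers_le.2 hw'E) hug')
      have e1 : ∀ x ∈ R, w' * x * w'⁻¹ = s' * x * s'⁻¹ := fun x hx => by
        rw [← he', show u' * s' = s' * u' from hus'.eq,
          show s' * u' * x * (s' * u')⁻¹ = s' * (u' * x * u'⁻¹) * s'⁻¹ by group,
          (hcomm u' (hRT hu'R) x (hRT hx)).eq, mul_inv_cancel_right]
      have hs'a : Commute s' a := mul_inv_eq_iff_eq_mul.1 ((e1 a ⟨a₀, ha₀, ha₀e⟩).symm.trans hw'a)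
      have hs's : Commute (s' * s') b := by
        rw [e1 b ⟨b₀, hb₀, hb₀e⟩] at hw'b
        refine mul_inv_eq_iff_eq_mul.1 ?_
        rw [show s' * s' * b * (s' * s')⁻¹ = s' * (s' * b * s'⁻¹) * s'⁻¹ by group]
        rcases hw'b with e | e
        · rw [e, e]
        · rw [e, show s' * (a * b) * s'⁻¹ = (s' * a * s'⁻¹) * (s' * b * s'⁻¹) by group, e, hs'a.eq,
            mul_inv_cancel_right, ← mul_assoc, hsq a ⟨a₀, ha₀, ha₀e⟩, one_mul]
      obtain ⟨k', hk'⟩ := hs'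
      have hs'' : s' = (s' * s') ^ (k' + 1) := by
        rw [← pow_two, ← pow_mul, show 2 * (k' + 1) = orderOf s' + 1 by omega, pow_succ, pow_orderOf_eq_one, one_mul]
      have hs'b : Commute s' b := hs'' ▸ hs's.pow_left (k' + 1)
      have := h.eq_one_of_comm haE hao hbE hbo hne hcab ((zpowers_le.2 hw'E) hsg') ⟨k', hk'⟩ hs'a hs'b
      rw [this, mul_one] at he'
      exact he' ▸ hcomm u' (hRT hu'R) z hzT
    have hsN : ∀ x ∈ R, s⁻¹ * x * s ∈ R := fun x hx => by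
      have := (mem_normalizer_iff.1 (inv_mem ((zpowers_le.2 (Cfsg.Lib.ZStarApps.mem_normalizer_of_maps hmR)) hsg)) x).1 hx
      rwa [inv_inv] at this
    have hsinv : Commute s⁻¹ z := (show Commute s z from mul_inv_eq_iff_eq_mul.1 hsz).inv_left
    have hw₀z : Commute w₀ z := by
      rcases hRcases _ (hw₀N a ⟨a₀, ha₀, ha₀e⟩) with e | e | e | e
      · exact absurd (by simpa [mul_inv_eq_one] using e) ha1
      · exact hfixpt w₀ hw₀E hw₀N e
      · have h1 := hfixpt (s⁻¹ * w₀) (mul_mem (inv_mem hsE) hw₀E) (fun x hx => by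
          rw [show s⁻¹ * w₀ * x * (s⁻¹ * w₀)⁻¹ = s⁻¹ * (w₀ * x * w₀⁻¹) * s by group]
          exact hsN _ (hw₀N x hx)) (by
          rw [show s⁻¹ * w₀ * a * (s⁻¹ * w₀)⁻¹ = s⁻¹ * (w₀ * a * w₀⁻¹) * s by group, e, ← hna]; group)
        have h2 := (show Commute s z from mul_inv_eq_iff_eq_mul.1 hsz).mul_left h1
        rwa [mul_inv_cancel_left] at h2
      · have h1 := hfixpt (s⁻¹ * (s⁻¹ * w₀)) (mul_mem (inv_mem hsE) (mul_mem (inv_mem hsE) hw₀E)) (fun x hx => by
          rw [show s⁻¹ * (s⁻¹ * w₀) * x * (s⁻¹ * (s⁻¹ * w₀))⁻¹ = s⁻¹ * (s⁻¹ * (w₀ * x * w₀⁻¹) * s) * s by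
            simp only [mul_inv_rev, inv_inv, mul_assoc]]
          exact hsN _ (hsN _ (hw₀N x hx))) (by
          rw [show s⁻¹ * (s⁻¹ * w₀) * a * (s⁻¹ * (s⁻¹ * w₀))⁻¹ = s⁻¹ * (s⁻¹ * (w₀ * a * w₀⁻¹) * s) * s by
            simp only [mul_inv_rev, inv_inv, mul_assoc],
            e, ← hnb, show s⁻¹ * (s⁻¹ * (s * b * s⁻¹) * s) * s = s⁻¹ * b * s by group, ← hna]; group)
        have hsz' : Commute s z := mul_inv_eq_iff_eq_mul.1 hsz
        have h2 := (hsz'.mul_left hsz').mul_left h1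
        rwa [show s * s * (s⁻¹ * (s⁻¹ * w₀)) = w₀ by group] at h2
    refine Subtype.ext ?_
    show (k⁻¹ : X).1 * z * (k : G) = z
    have : Commute w z := by
      rcases hw₀ with e | e
      · exact e ▸ hw₀z
      · exact e ▸ hw₀z.mul_left (Commute.refl z)
    rw [show (k : G) = w⁻¹ by rw [hw]; push_cast; group, ← hw, this.eq, mul_inv_cancel_right]
  have hzo : orderOf (⟨z, hzX⟩ : X) = 2 := by
    rw [orderOf_mk]
    exact orderOf_eq_prime (by rw [pow_two, hz2]) fun e => hzR (e ▸ one_mem _)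
  obtain ⟨N, hN, hNodd, hNc⟩ := Cfsg.Agent.S0215.result P _ hzo hzP hconj
  have hNE : N.map X.subtype ≤ E₀ := by
    rintro _ ⟨x, hx, rfl⟩
    have ho : Odd (orderOf x) := hNodd.of_dvd_nat (orderOf_dvd_natCard _ hx)
    rcases x.2 with h1 | h1
    · exact h1
    · exfalso
      have h2 : (x : G) * x ∈ E₀ := by
        rcases (X.mul_mem x.2 x.2) with q | q
        · exact q
        · exfalso
          have h4 : z⁻¹ * (x : G) * z ∈ X := mul_mem (mul_mem (inv_mem hzX) x.2) hzX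
          have h5 : (x : G) * x * z = ((x : G) * z) * (z⁻¹ * ((x : G) * z) * z⁻¹) * z := by group
          have h6 : z⁻¹ * ((x : G) * z) * z⁻¹ ∈ E₀ := by
            nth_rw 2 [hzinv]; exact h.norm' hzE h1
          rw [h5] at q
          exact hzE₀ ((mul_mem_cancel_left (mul_mem h1 h6)).1 q)
      obtain ⟨j, hj⟩ := ho
      have hxx : (x : G) ∈ E₀ := by
        have : (x : G) = ((x : G) * x) ^ (j + 1) := by
          rw [← pow_two, ← pow_mul, show 2 * (j + 1) = orderOf (x : G) + 1 by rw [orderOf_coe]; omega,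
            pow_succ, pow_orderOf_eq_one, one_mul]
        rw [this]; exact pow_mem h2 _
      exact hzE₀ ((mul_mem_cancel_left hxx).1 h1)
  have hbot := h.odd_normal hNE (by rw [card_map_of_injective X.subtype_injective]; exact hNodd)
    (fun g hg x hx => by
      obtain ⟨x', hx', rfl⟩ := hx
      exact ⟨⟨g, Or.inl hg⟩ * x' * (⟨g, Or.inl hg⟩ : X)⁻¹, hN.conj_mem _ hx' _, rfl⟩) haE hao hbE hbo hne hcab
  have hz1 : z = 1 := h.faith z hzE fun x hx => by
    have := mem_map_of_mem X.subtype (hNc ⟨x, Or.inl hx⟩)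
    rw [hbot, mem_bot] at this
    simpa [mul_inv_eq_iff_eq_mul, Commute, SemiconjBy] using this
  exact hzR (hz1 ▸ one_mem _)

end Cfsg.Lib.AbCentMax
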