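import Cfsg.Agent.AbCentMax.Frame
import Cfsg.Agent.S0222
import Cfsg.Agent.S0280

/-!
The centraliser of `t` is maximal.
-/

set_option autoImplicit false
set_option linter.style.haveILetI false
set_option linter.unusedSectionVars false

namespace Cfsg.Lib.AbCentMax

open Subgroup

universe u v

variable {G : Type u} [Group G] [Finite G]
variable {t : G} {E E₀ : Subgroup G} {F : Type v} [Field F] [Fintype F]
variable {T : Sylow 2 G} {a b n : G}

theorem order_two_sq {x : G} (hx : orderOf x = 2) : x * x = 1 := by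
  rw [← pow_two, ← hx, pow_orderOf_eq_one]

theorem eq_sq_pow {x : G} (hx : Odd (orderOf x)) : ∃ k : ℕ, x = (x * x) ^ k := by
  obtain ⟨k, hk⟩ := hx
  exact ⟨k + 1, by rw [← pow_two, ← pow_mul, show 2 * (k + 1) = orderOf x + 1 by omega, pow_succ,
    pow_orderOf_eq_one, one_mul]⟩

section Sys

variable (h : Hyp t E E₀ F) (S : Sys t E₀ T a b n)
include h S

theorem aa : a * a = 1 := order_two_sq S.ao

theorem bb : b * b = 1 := order_two_sq S.bo

theorem ab_comm : Commute a b := S.tcomm a S.aT b S.bT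

theorem ab_order : orderOf (a * b) = 2 := by
  refine orderOf_eq_prime (by rw [(ab_comm h S).mul_pow, pow_two, pow_two, aa h S, bb h S, one_mul]) fun e => ?_
  exact S.ne (by rw [eq_inv_of_mul_eq_one_right e, inv_eq_of_mul_eq_one_right (aa h S)])

theorem R_nontriv {v : G} (hv : v = a ∨ v = b ∨ v = a * b) : v ∈ E₀ ∧ v ∈ T ∧ orderOf v = 2 := by
  rcases hv with rfl | rfl | rfl
  · exact ⟨S.aE, S.aT, S.ao⟩
  · exact ⟨S.bE, S.bT, S.bo⟩
  · exact ⟨mul_mem S.aE S.bE, (T : Subgroup G).mul_mem S.aT S.bT, ab_order h S⟩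

/-- an element of `T` outside `⟨t⟩` acts on `C(t)` like an involution of `E₀` -/
theorem proj {y : G} (hy : y ∈ T) (hy1 : y ≠ 1) (hyt : y ≠ t) :
    ∃ σ, σ ∈ E₀ ∧ orderOf σ = 2 ∧ ∀ z : G, Commute z t → y * z * y⁻¹ = σ * z * σ⁻¹ := by
  obtain ⟨v, hv, hyv⟩ := S.cases y hy
  have hv1 : v = a ∨ v = b ∨ v = a * b := by
    refine hv.resolve_left fun e => ?_
    rcases hyv with r | r
    · exact hy1 (r.trans e)
    · exact hyt (r.trans (by rw [e, mul_one]))
  obtain ⟨hvE, -, hvo⟩ := R_nontriv h S hv1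
  refine ⟨v, hvE, hvo, fun z hz => ?_⟩
  rcases hyv with r | r
  · rw [r]
  · have hc : Commute t (v * z * v⁻¹) :=
      ((h.comm v (h.le hvE)).mul_right hz.symm).mul_right (h.comm _ (h.le (inv_mem hvE)))
    rw [r, show t * v * z * (t * v)⁻¹ = t * (v * z * v⁻¹) * t⁻¹ by group, hc.eq, mul_inv_cancel_right]

theorem odd_inverted_mem {z σ : G} (hz : Odd (orderOf z)) (hzt : Commute z t) (hσ : σ ∈ E₀)
    (hi : σ * z * σ⁻¹ = z⁻¹) : z ∈ E₀ := by
  have hzE := h.odd_mem_E hz hzt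
  have h1 : σ * z * σ⁻¹ * z⁻¹ ∈ E₀ := by
    rw [show σ * z * σ⁻¹ * z⁻¹ = σ * (z * σ⁻¹ * z⁻¹) by group]
    exact mul_mem hσ (h.norm z hzE _ (inv_mem hσ))
  rw [hi, ← mul_inv_rev] at h1
  obtain ⟨k, hk⟩ := eq_sq_pow hz
  rw [hk]; exact pow_mem (inv_mem_iff.1 h1) _

/-- the conjugates of `t` in `T` under a subgroup containing the centraliser -/
theorem orbit_dichotomy {H : Subgroup G} (hC : ∀ x, Commute x t → x ∈ H) :
    (∀ g ∈ H, g * t * g⁻¹ ∈ T → g * t * g⁻¹ = t) ∨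
      ((∀ x ∈ T, x ≠ 1 → ∃ g ∈ H, g ∈ normalizer ((T : Subgroup G) : Set G) ∧ g * t * g⁻¹ = x) ∧
        7 ∣ Nat.card ↥(normalizer ((T : Subgroup G) : Set G))) := by
  classical
  haveI : Fact (Nat.Prime 2) := ⟨Nat.prime_two⟩
  set M := H ⊓ normalizer ((T : Subgroup G) : Set G) with hM
  set O : Set G := {x | ∃ g ∈ M, g * t * g⁻¹ = x} with hO
  have hTH : (T : Subgroup G) ≤ H := fun x hx => hC x (S.tcomm x hx t S.tT)
  have hTM : (T : Subgroup G) ≤ M := le_inf hTH le_normalizer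
  letI : MulAction M G := MulAction.compHom G ((ConjAct.toConjAct (G := G)).toMonoidHom.comp M.subtype)
  have hsmul : ∀ (g : M) (x : G), g • x = (g : G) * x * (g : G)⁻¹ := fun g x => ConjAct.toConjAct_smul _ _
  have hOorb : O = MulAction.orbit M t := by
    ext x
    constructor
    · rintro ⟨g, hg, rfl⟩; exact ⟨⟨g, hg⟩, hsmul _ _⟩
    · rintro ⟨g, rfl⟩; exact ⟨g, g.2, (hsmul _ _).symm⟩
  have hOodd : Odd O.ncard ∧ O.ncard ∣ Nat.card M := by
    have h1 : O.ncard = (MulAction.stabilizer M t).index := by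
      rw [hOorb, MulAction.index_stabilizer, ]
    refine ⟨?_, h1 ▸ index_dvd_card _⟩
    have h2 : (T : Subgroup G).subgroupOf M ≤ MulAction.stabilizer M t := fun g hg => by
      rw [MulAction.mem_stabilizer_iff, hsmul, (S.tcomm (g : G) (mem_subgroupOf.1 hg) t S.tT).eq, mul_inv_cancel_right]
    rw [h1, ← Nat.not_even_iff_odd]
    intro he
    refine T.not_dvd_index (he.two_dvd.trans ((index_dvd_of_le h2).trans ?_))
    exact Dvd.intro _ (relIndex_mul_index hTM)
  have hmem : ∀ x ∈ O, x ∈ T ∧ x ≠ 1 := by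
    rintro x ⟨g, hg, rfl⟩
    exact ⟨(mem_normalizer_iff.1 hg.2 t).1 S.tT, fun e => h.t_ne (by
      rwa [mul_inv_eq_one, mul_eq_left] at e)⟩
  have hnM : n ∈ M := by
    refine ⟨hC n (h.comm n (h.le S.nE)).symm, Cfsg.Lib.ZStarApps.mem_normalizer_of_maps fun x hx => ?_⟩
    have hnt : n * t * n⁻¹ = t := by rw [← (h.comm n (h.le S.nE)).eq, mul_inv_cancel_right]
    have hR : ∀ v, (v = 1 ∨ v = a ∨ v = b ∨ v = a * b) → n * v * n⁻¹ ∈ T := by
      rintro v (rfl | rfl | rfl | rfl)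
      · simp
      · rw [S.na]; exact S.bT
      · rw [S.nb]; exact (T : Subgroup G).mul_mem S.aT S.bT
      · rw [show n * (a * b) * n⁻¹ = (n * a * n⁻¹) * (n * b * n⁻¹) by group, S.na, S.nb]
        exact (T : Subgroup G).mul_mem S.bT ((T : Subgroup G).mul_mem S.aT S.bT)
    obtain ⟨v, hv, r | r⟩ := S.cases x hx
    · rw [r]; exact hR v hv
    · rw [r, show n * (t * v) * n⁻¹ = (n * t * n⁻¹) * (n * v * n⁻¹) by group, hnt]
      exact (T : Subgroup G).mul_mem S.tT (hR v hv)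
  have hcl : ∀ x ∈ O, n * x * n⁻¹ ∈ O := by
    rintro x ⟨g, hg, rfl⟩
    exact ⟨n * g, mul_mem hnM hg, by group⟩
  have hnab : n * (a * b) * n⁻¹ = a := by
    rw [show n * (a * b) * n⁻¹ = (n * a * n⁻¹) * (n * b * n⁻¹) by group, S.na, S.nb, (ab_comm h S).eq,
      ← mul_assoc, bb h S, one_mul]
  have hnt : n * t * n⁻¹ = t := by rw [← (h.comm n (h.le S.nE)).eq, mul_inv_cancel_right]
  have hA : (a ∈ O ∨ b ∈ O ∨ a * b ∈ O) → a ∈ O ∧ b ∈ O ∧ a * b ∈ O := by
    rintro (e | e | e)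
    · exact ⟨e, S.na ▸ hcl a e, S.nb ▸ hcl b (S.na ▸ hcl a e)⟩
    · exact ⟨hnab ▸ hcl _ (S.nb ▸ hcl b e), e, S.nb ▸ hcl b e⟩
    · exact ⟨hnab ▸ hcl _ e, S.na ▸ hcl a (hnab ▸ hcl _ e), e⟩
  have htv : ∀ v, n * (t * v) * n⁻¹ = t * (n * v * n⁻¹) := fun v => by
    rw [show n * (t * v) * n⁻¹ = (n * t * n⁻¹) * (n * v * n⁻¹) by group, hnt]
  have ha' : n * (t * a) * n⁻¹ = t * b := by rw [htv, S.na]
  have hb' : n * (t * b) * n⁻¹ = t * (a * b) := by rw [htv, S.nb]
  have hab' : n * (t * (a * b)) * n⁻¹ = t * a := by rw [htv, hnab]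
  have hB : (t * a ∈ O ∨ t * b ∈ O ∨ t * (a * b) ∈ O) → t * a ∈ O ∧ t * b ∈ O ∧ t * (a * b) ∈ O := by
    rintro (e | e | e)
    · exact ⟨e, ha' ▸ hcl _ e, hb' ▸ hcl _ (ha' ▸ hcl _ e)⟩
    · exact ⟨hab' ▸ hcl _ (hb' ▸ hcl _ e), e, hb' ▸ hcl _ e⟩
    · exact ⟨hab' ▸ hcl _ e, ha' ▸ hcl _ (hab' ▸ hcl _ e), e⟩
  have htO : t ∈ O := ⟨1, one_mem _, by simp⟩
  have hcase : ∀ x ∈ O, x = t ∨ (x = a ∨ x = b ∨ x = a * b) ∨ (x = t * a ∨ x = t * b ∨ x = t * (a * b)) := by
    intro x hx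
    obtain ⟨hxT, hx1⟩ := hmem x hx
    obtain ⟨v, hv, r | r⟩ := S.cases x hxT
    · rcases hv with e | e
      · exact absurd (r.trans e) hx1
      · exact Or.inr (Or.inl (r ▸ e))
    · rcases hv with e | e | e | e
      · exact Or.inl (r.trans (by rw [e, mul_one]))
      all_goals (subst e; simp [r])
  -- distinctness
  have hd : ∀ v, v ∈ E₀ → v ≠ 1 → t ≠ v ∧ t * v ≠ t := fun v hv hv1 =>
    ⟨fun e => h.disj (h.le (e ▸ hv)), fun e => hv1 (mul_eq_left.1 e)⟩
  have ha1 : a ≠ 1 := fun e => by have := S.ao; rw [e, orderOf_one] at this; omega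
  have hb1 : b ≠ 1 := fun e => by have := S.bo; rw [e, orderOf_one] at this; omega
  have hab1 : a * b ≠ 1 := fun e => by have := ab_order h S; rw [e, orderOf_one] at this; omega
  have hanab : a ≠ a * b := fun e => hb1 (mul_eq_left.1 e.symm)
  have hbnab : b ≠ a * b := fun e => ha1 (mul_eq_right.1 e.symm)
  have hfour : ∀ x y z : G, t ≠ x → t ≠ y → t ≠ z → x ≠ y → x ≠ z → y ≠ z →
      O = {t, x, y, z} → False := by
    intro x y z h1 h2 h3 h4 h5 h6 e
    have : O.ncard = 4 := Set.ncard_eq_four.2 ⟨t, x, y, z, h1, h2, h3, h4, h5, h6, e⟩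
    rw [this] at hOodd
    exact absurd hOodd.1 (by decide)
  by_cases hAO : a ∈ O <;> by_cases hBO : t * a ∈ O
  · obtain ⟨-, hbO, habO⟩ := hA (Or.inl hAO)
    obtain ⟨-, htbO, htabO⟩ := hB (Or.inl hBO)
    right
    have hall : ∀ x ∈ T, x ≠ 1 → x ∈ O := by
      intro x hx hx1
      obtain ⟨v, hv, r | r⟩ := S.cases x hx <;> rcases hv with e | e | e | e <;> subst e <;> subst r
      all_goals first
        | exact absurd rfl hx1
        | assumption
        | simpa using htO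
    refine ⟨fun x hx hx1 => ?_, ?_⟩
    · obtain ⟨g, hg, e⟩ := hall x hx hx1
      exact ⟨g, hg.1, hg.2, e⟩
    · have h7 : O.ncard = 7 := by
        have e : O = {t, a, b, a * b, t * a, t * b, t * (a * b)} := by
          ext x
          constructor
          · intro hx
            have := hcase x hx
            simp only [Set.mem_insert_iff, Set.mem_singleton_iff]
            tauto
          · simp only [Set.mem_insert_iff, Set.mem_singleton_iff]
            rintro (rfl | rfl | rfl | rfl | rfl | rfl | rfl) <;> assumption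
        have d : ∀ v w, v ∈ E₀ → w ∈ E₀ → v ≠ t * w := fun v w hv hw e =>
          h.disj (h.le (by simpa [e] using mul_mem hv (inv_mem hw)))
        rw [e, Set.ncard_insert_of_notMem, Set.ncard_insert_of_notMem, Set.ncard_insert_of_notMem,
          Set.ncard_insert_of_notMem, Set.ncard_insert_of_notMem, Set.ncard_insert_of_notMem,
          Set.ncard_singleton]
        all_goals
          simp [(hd a S.aE ha1).1, (hd b S.bE hb1).1, (hd _ (mul_mem S.aE S.bE) hab1).1,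
            ((hd a S.aE ha1).2).symm, ((hd b S.bE hb1).2).symm, ((hd _ (mul_mem S.aE S.bE) hab1).2).symm,
            S.ne, hanab, hbnab, d a a S.aE S.aE, d a b S.aE S.bE, d a _ S.aE (mul_mem S.aE S.bE),
            d b a S.bE S.aE, d b b S.bE S.bE, d b _ S.bE (mul_mem S.aE S.bE),
            d _ a (mul_mem S.aE S.bE) S.aE, d _ b (mul_mem S.aE S.bE) S.bE,
            d _ _ (mul_mem S.aE S.bE) (mul_mem S.aE S.bE), ha1, hb1, hab1]
      exact h7 ▸ hOodd.2.trans (card_dvd_of_le inf_le_right)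
  · exfalso
    obtain ⟨-, hbO, habO⟩ := hA (Or.inl hAO)
    refine hfour a b (a * b) (hd a S.aE ha1).1 (hd b S.bE hb1).1 (hd _ (mul_mem S.aE S.bE) hab1).1 S.ne hanab hbnab
      (Set.ext fun x => ⟨fun hx => ?_, ?_⟩)
    · rcases hcase x hx with e | e | e
      · simp [e]
      · rcases e with e | e | e <;> simp [e]
      · rcases e with e | e | e <;> subst e
        · exact absurd hx hBO
        · exact absurd (hB (Or.inr (Or.inl hx))).1 hBO
        · exact absurd (hB (Or.inr (Or.inr hx))).1 hBO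
    · rintro (rfl | rfl | rfl | rfl) <;> assumption
  · exfalso
    obtain ⟨-, hbO, habO⟩ := hB (Or.inl hBO)
    refine hfour (t * a) (t * b) (t * (a * b)) (hd a S.aE ha1).2.symm (hd b S.bE hb1).2.symm
      (hd _ (mul_mem S.aE S.bE) hab1).2.symm (fun e => S.ne (mul_left_cancel e))
      (fun e => hanab (mul_left_cancel e)) (fun e => hbnab (mul_left_cancel e))
      (Set.ext fun x => ⟨fun hx => ?_, ?_⟩)
    · rcases hcase x hx with e | e | e
      · simp [e]
      · rcases e with e | e | e <;> subst e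
        · exact absurd hx hAO
        · exact absurd (hA (Or.inr (Or.inl hx))).1 hAO
        · exact absurd (hA (Or.inr (Or.inr hx))).1 hAO
      · rcases e with e | e | e <;> simp [e]
    · rintro (rfl | rfl | rfl | rfl) <;> assumption
  · left
    intro g hgH hgT
    haveI : IsMulCommutative (T : Subgroup G) := ⟨⟨fun x y => Subtype.ext (S.tcomm x x.2 y y.2).eq⟩⟩
    -- Burnside inside `H`
    set TH : Sylow 2 H := T.subtype hTH with hTHdef
    haveI : IsMulCommutative (TH : Subgroup H) := ⟨⟨fun x y => Subtype.ext (Subtype.ext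
      (S.tcomm _ (mem_subgroupOf.1 x.2) _ (mem_subgroupOf.1 y.2)).eq)⟩⟩
    obtain ⟨m, hm, em⟩ := TH.conj_eq_normalizer_conj_of_mem (⟨t, hTH S.tT⟩ : H) (⟨g, hgH⟩ : H)⁻¹
      (mem_subgroupOf.2 S.tT) (by
        rw [inv_inv]
        exact mem_subgroupOf.2 hgT)
    rw [inv_inv] at em
    have hmN : ((m⁻¹ : H) : G) ∈ M := by
      refine ⟨(m⁻¹).2, Cfsg.Lib.ZStarApps.mem_normalizer_of_maps fun x hx => ?_⟩
      exact mem_subgroupOf.1 ((mem_normalizer_iff.1 (inv_mem hm) ⟨x, hTH hx⟩).1 (mem_subgroupOf.2 hx))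
    have hgO : g * t * g⁻¹ ∈ O := ⟨_, hmN, by
      have := congrArg Subtype.val em
      push_cast at this
      rw [this]; push_cast; group⟩
    rcases hcase _ hgO with e | e | e
    · exact e
    · exfalso; rcases e with e | e | e <;> rw [e] at hgO
      · exact hAO hgO
      · exact hAO (hA (Or.inr (Or.inl hgO))).1
      · exact hAO (hA (Or.inr (Or.inr hgO))).1
    · exfalso; rcases e with e | e | e <;> rw [e] at hgO
      · exact hBO hgO
      · exact hBO (hB (Or.inr (Or.inl hgO))).1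
      · exact hBO (hB (Or.inr (Or.inr hgO))).1

/-- no nontrivial element inverted by `t` in the odd normal subgroup commutes with `v` and `s` -/
theorem kill {X : Subgroup G} (hXodd : Odd (Nat.card X)) (hXinv : ∀ x ∈ X, t * x * t⁻¹ = x⁻¹)
    (hXn : ∀ c, Commute c t → ∀ x ∈ X, c * x * c⁻¹ ∈ X)
    (hall : ∀ x ∈ T, x ≠ 1 → ∃ g, g ∈ normalizer ((T : Subgroup G) : Set G) ∧ g * t * g⁻¹ = x)
    {v w s x : G} (hv : v = a ∨ v = b ∨ v = a * b) (hw : w = a ∨ w = b ∨ w = a * b) (hvw : v ≠ w)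
    (hs : s = w ∨ s = t * w) (hx : x ∈ X) (hxv : Commute x v) (hxs : Commute x s) : x = 1 := by
  classical
  obtain ⟨hvE, hvT, hvo⟩ := R_nontriv h S hv
  obtain ⟨hwE, hwT, hwo⟩ := R_nontriv h S hw
  obtain ⟨g, hgN, hgv⟩ := hall v hvT (fun e => by rw [e, orderOf_one] at hvo; omega)
  set φ := MulAut.conj g⁻¹ with hφ
  have hφv : φ v = t := by rw [← hgv, hφ]; simp [mul_assoc]
  have hφT : ∀ z ∈ T, φ z ∈ T := fun z hz => by
    show φ z ∈ (T : Subgroup G)
    simpa [hφ] using (mem_normalizer_iff.1 (inv_mem hgN) z).1 hz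
  have hφo : ∀ z, orderOf (φ z) = orderOf z := fun z => φ.orderOf_eq z
  have hXo : ∀ z ∈ X, Odd (orderOf z) := fun z hz => hXodd.of_dvd_nat (orderOf_dvd_natCard _ hz)
  have hsT : s ∈ T := hs.elim (fun e => e ▸ hwT) (fun e => e ▸ (T : Subgroup G).mul_mem S.tT hwT)
  have hw1 : w ≠ 1 := fun e => by rw [e, orderOf_one] at hwo; omega
  have hsv : s ≠ v := by
    rcases hs with e | e <;> rw [e]
    · exact hvw.symm
    · exact fun r => h.disj (h.le (by simpa [← r] using mul_mem hvE (inv_mem hwE)))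
  have hs1 : s ≠ 1 := by
    rcases hs with e | e <;> rw [e]
    · exact hw1
    · exact fun r => h.disj (h.le (eq_inv_of_mul_eq_one_left r ▸ inv_mem hwE))
  have htv : t ≠ v := fun e => h.disj (h.le (e ▸ hvE))
  obtain ⟨σ, hσE, hσo, hσ⟩ := proj h S (y := φ s) (hφT s hsT) (fun e => hs1 (φ.injective (e.trans φ.map_one.symm)))
    (fun e => hsv (φ.injective (e.trans hφv.symm)))
  obtain ⟨τ, hτE, -, hτ⟩ := proj h S (y := φ t) (hφT t S.tT) (fun e => h.t_ne (φ.injective (e.trans φ.map_one.symm)))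
    (fun e => htv (φ.injective (e.trans hφv.symm)))
  -- images of elements of `X`
  have himg : ∀ z ∈ X, Commute z v → φ z ∈ E₀ ∧ Commute (φ z) t := by
    intro z hz hzv
    have hc : Commute (φ z) t := hφv ▸ hzv.map φ.toMonoidHom
    refine ⟨odd_inverted_mem h S (by rw [hφo]; exact hXo z hz) hc hτE ?_, hc⟩
    rw [← hτ _ hc, ← map_inv, ← map_mul, ← map_mul, hXinv z hz, map_inv]
  have hback : ∀ z, Commute z v → (Commute z s ↔ Commute (φ z) σ) := by
    intro z hzv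
    have hc : Commute (φ z) t := hφv ▸ hzv.map φ.toMonoidHom
    have e := hσ _ hc
    constructor
    · intro hzs
      refine (mul_inv_eq_iff_eq_mul.1 ?_).symm
      rw [← e, ← (hzs.map φ).eq]; exact mul_inv_cancel_right _ _
    · intro hzσ
      rw [← hzσ.eq, mul_inv_cancel_right] at e
      have e' := mul_inv_eq_iff_eq_mul.1 e
      rw [← map_mul, ← map_mul] at e'
      exact (φ.injective e').symm
  by_contra hx1
  obtain ⟨hxE, hxt⟩ := himg x hx hxv
  have hxo : Odd (orderOf (φ x)) := by rw [hφo]; exact hXo x hx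
  have hxne : φ x ≠ 1 := fun e => hx1 (φ.injective (e.trans φ.map_one.symm))
  have hxσ := (hback x hxv).1 hxs
  -- an element of odd order of `C(v) ∩ E₀`
  obtain ⟨p, hpE, hpσ⟩ := h.conj hσE hσo hvE hvo
  set y := p * φ x * p⁻¹ with hy
  have hyE : y ∈ E₀ := mul_mem (mul_mem hpE hxE) (inv_mem hpE)
  have hyv : Commute y v := hpσ ▸ hxσ.map (MulAut.conj p).toMonoidHom
  have hyo : Odd (orderOf y) := by
    rw [hy, show p * φ x * p⁻¹ = MulAut.conj p (φ x) from rfl, MulEquiv.orderOf_eq]; exact hxo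
  have hy1 : y ≠ 1 := fun e => hxne (by
    rwa [hy, mul_inv_eq_one, mul_eq_left] at e)
  have hyt : Commute y t := (h.comm y (h.le hyE)).symm
  have hwy := h.inverts hvE hvo hwE hwo hvw (S.tcomm v hvT w hwT) hyE hyo hyv
  -- `w` acts as a sign on the part commuting with `s`
  have hsign : ∀ z ∈ X, Commute z s → w * z * w⁻¹ = if s = w then z else z⁻¹ := by
    intro z hz hzs
    split_ifs with e
    · rw [← e, ← hzs.eq, mul_inv_cancel_right]
    · have e2 := hs.resolve_left e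
      have ew : w = t⁻¹ * s := by rw [e2, inv_mul_cancel_left]
      rw [ew, show t⁻¹ * s * z * (t⁻¹ * s)⁻¹ = t⁻¹ * (s * z * s⁻¹) * t by group, ← hzs.eq, mul_inv_cancel_right]
      have := hXinv z hz
      rw [h.t_inv] at this ⊢
      exact this
  set x1 := y * x * y⁻¹ with hx1def
  have hx1X : x1 ∈ X := hXn y hyt x hx
  have hXc : Commute x1 x := by
    have e : ∀ z ∈ X, t * z * t⁻¹ = z⁻¹ := hXinv
    have h1 := e _ (mul_mem hx1X hx)
    rw [show t * (x1 * x) * t⁻¹ = (t * x1 * t⁻¹) * (t * x * t⁻¹) by group, e _ hx1X, e _ hx, mul_inv_rev x1 x] at h1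
    exact inv_inv x ▸ inv_inv x1 ▸ (show Commute x1⁻¹ x⁻¹ from h1).inv_inv
  have hx1v : Commute x1 v := (hyv.mul_left hxv).mul_left hyv.inv_left
  obtain ⟨hx1E, -⟩ := himg x1 hx1X hx1v
  have hx1s : Commute x1 s := (hback x1 hx1v).2 (h.fix_of_comm hσE hσo hxE hxne hxo hxσ hx1E
    (by rw [hφo]; exact hXo x1 hx1X) (hXc.map φ.toMonoidHom))
  have hkey : y⁻¹ * x * y = y * x * y⁻¹ := by
    have e1 := hsign x1 hx1X hx1s
    rw [hx1def, show w * (y * x * y⁻¹) * w⁻¹ = (w * y * w⁻¹) * (w * x * w⁻¹) * (w * y * w⁻¹)⁻¹ by group,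
      hwy, inv_inv, hsign x hx hxs] at e1
    split_ifs at e1 with e
    · exact e1
    · calc y⁻¹ * x * y = (y⁻¹ * x⁻¹ * y)⁻¹ := by group
        _ = y * x * y⁻¹ := by rw [e1, inv_inv]
  have hy2x : Commute (y * y) x := by
    show y * y * x = x * (y * y)
    calc y * y * x = y * (y * x * y⁻¹) * y := by group
      _ = y * (y⁻¹ * x * y) * y := by rw [hkey]
      _ = _ := by group
  obtain ⟨k, hk⟩ := eq_sq_pow hyo
  have hyx : Commute y x := by rw [hk]; exact hy2x.pow_left k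
  -- `φ y` lies in `E₀`
  obtain ⟨ω, hωE, -, hω⟩ := proj h S (y := φ w) (hφT w hwT) (fun e => hw1 (φ.injective (e.trans φ.map_one.symm)))
    (fun e => hvw (φ.injective (hφv.trans e.symm)))
  have hyct : Commute (φ y) t := hφv ▸ hyv.map φ.toMonoidHom
  have hyE' : φ y ∈ E₀ := odd_inverted_mem h S (by rw [hφo]; exact hyo) hyct hωE (by
    rw [← hω _ hyct, ← map_inv, ← map_mul, ← map_mul, hwy, map_inv])
  have hys : Commute y s := (hback y hyv).2 (h.fix_of_comm hσE hσo hxE hxne hxo hxσ hyE'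
    (by rw [hφo]; exact hyo) (hyx.map φ.toMonoidHom))
  have hyw : Commute y w := by
    rcases hs with e | e
    · exact e ▸ hys
    · have := hyt.inv_right.mul_right hys
      rwa [e, inv_mul_cancel_left] at this
  exact hy1 (h.eq_one_of_comm hvE hvo hwE hwo hvw (S.tcomm v hvT w hwT) hyE hyo hyv hyw)

/-- the odd normal subgroup is trivial -/
theorem odd_core_trivial {X : Subgroup G} (hXodd : Odd (Nat.card X))
    (hXn : ∀ c, Commute c t → ∀ x ∈ X, c * x * c⁻¹ ∈ X)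
    (hall : ∀ x ∈ T, x ≠ 1 → ∃ g, g ∈ normalizer ((T : Subgroup G) : Set G) ∧ g * t * g⁻¹ = x) : X = ⊥ := by
  classical
  have hXo : ∀ z ∈ X, Odd (orderOf z) := fun z hz => hXodd.of_dvd_nat (orderOf_dvd_natCard _ hz)
  have hodd1 : ∀ z : G, Odd (orderOf z) → z = z⁻¹ → z = 1 := by
    intro z hz e
    have h2 : orderOf z ∣ 2 := orderOf_dvd_of_pow_eq_one (by rw [pow_two]; nth_rw 1 [e]; exact inv_mul_cancel z)
    rcases (Nat.dvd_prime Nat.prime_two).1 h2 with r | r
    · exact orderOf_eq_one_iff.1 r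
    · rw [r] at hz; exact absurd hz (by decide)
  -- fixed points of `t`
  have hfix : ∀ x ∈ X, Commute x t → x = 1 := by
    intro x hx hxt
    set N : Subgroup G := X ⊓ centralizer ({t} : Set G) with hN
    have hNo : Odd (Nat.card N) := hXodd.of_dvd_nat (card_dvd_of_le inf_le_left)
    have hNE : ∀ z ∈ N, z ∈ E := fun z hz => h.odd_mem_E (hXo z hz.1) (mem_centralizer_singleton_iff.1 hz.2)
    have hNn : ∀ c ∈ E₀, ∀ z ∈ N, c * z * c⁻¹ ∈ N := fun c hc z hz =>
      ⟨hXn c (h.comm c (h.le hc)).symm z hz.1, mem_centralizer_singleton_iff.2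
        ((((h.comm c (h.le hc)).symm).mul_left (mem_centralizer_singleton_iff.1 hz.2)).mul_left
          (h.comm _ (h.le (inv_mem hc))).symm).eq⟩
    have hbot := h.odd_normal (N := N ⊓ E₀) inf_le_right (hNo.of_dvd_nat (card_dvd_of_le inf_le_left))
      (fun c hc z hz => mem_inf.2 ⟨hNn c hc z (mem_inf.1 hz).1, mul_mem (mul_mem hc (mem_inf.1 hz).2) (inv_mem hc)⟩) S.aE S.ao S.bE S.bo S.ne
      (ab_comm h S)
    have hxN : x ∈ N := ⟨hx, mem_centralizer_singleton_iff.2 hxt.eq⟩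
    refine h.faith x (hNE x hxN) fun c hc => ?_
    have : c * x * c⁻¹ * x⁻¹ ∈ N ⊓ E₀ := by
      refine mem_inf.2 ⟨mul_mem (hNn c hc x hxN) (inv_mem hxN), ?_⟩
      rw [show c * x * c⁻¹ * x⁻¹ = c * (x * c⁻¹ * x⁻¹) by group]
      exact mul_mem hc (h.norm x (hNE x hxN) _ (inv_mem hc))
    rw [hbot, mem_bot, mul_inv_eq_one] at this
    exact (mul_inv_eq_iff_eq_mul.1 this).symm
  -- `t` inverts `X`
  have hinv : ∀ x ∈ X, t * x * t⁻¹ = x⁻¹ := by
    let φ : X →* X :=
      { toFun := fun x => ⟨t * x * t⁻¹, hXn t (Commute.refl t) x x.2⟩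
        map_one' := Subtype.ext (by simp)
        map_mul' := fun x y => Subtype.ext (by push_cast; group) }
    have hfp : MonoidHom.FixedPointFree φ := fun x hx => Subtype.ext (hfix x x.2
      (mul_inv_eq_iff_eq_mul.1 (congrArg Subtype.val hx)).symm)
    have h2 : Function.Involutive φ := fun x => Subtype.ext (by
      show t * (t * x * t⁻¹) * t⁻¹ = x
      rw [show t * (t * x * t⁻¹) * t⁻¹ = (t * t) * x * (t * t)⁻¹ by group, h.tt]; simp)
    intro x hx
    exact congrArg Subtype.val (congrFun (hfp.coe_eq_inv_of_involutive h2) ⟨x, hx⟩)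
  have hcommX : ∀ x ∈ X, ∀ y ∈ X, Commute x y := by
    intro x hx y hy
    have h1 := hinv _ (mul_mem hx hy)
    rw [show t * (x * y) * t⁻¹ = (t * x * t⁻¹) * (t * y * t⁻¹) by group, hinv _ hx, hinv _ hy, mul_inv_rev] at h1
    exact inv_inv y ▸ inv_inv x ▸ (show Commute x⁻¹ y⁻¹ from h1).inv_inv
  -- squares decompose along an involution
  have hhalf : ∀ u : G, u * u = 1 → Commute u t → ∀ x ∈ X,
      (x * (u * x * u⁻¹) ∈ X ∧ Commute (x * (u * x * u⁻¹)) u) ∧
        (x * (u * x * u⁻¹)⁻¹ ∈ X ∧ u * (x * (u * x * u⁻¹)⁻¹) * u⁻¹ = (x * (u * x * u⁻¹)⁻¹)⁻¹) := by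
    intro u hu hut x hx
    have huX := hXn u hut x hx
    have huu : u * (u * x * u⁻¹) * u⁻¹ = x := by
      rw [show u * (u * x * u⁻¹) * u⁻¹ = (u * u) * x * (u * u)⁻¹ by group, hu]; simp
    refine ⟨⟨mul_mem hx huX, (mul_inv_eq_iff_eq_mul.1 ?_).symm⟩, mul_mem hx (inv_mem huX), ?_⟩
    · rw [show u * (x * (u * x * u⁻¹)) * u⁻¹ = (u * x * u⁻¹) * (u * (u * x * u⁻¹) * u⁻¹) by group, huu]
      exact (hcommX _ huX _ hx).eq
    · rw [show u * (x * (u * x * u⁻¹)⁻¹) * u⁻¹ = (u * x * u⁻¹) * (u * (u * x * u⁻¹) * u⁻¹)⁻¹ by group, huu]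
      group
  have hcv : ∀ v w, (v = a ∨ v = b ∨ v = a * b) → (w = a ∨ w = b ∨ w = a * b) → v ≠ w →
      ∀ x ∈ X, Commute x v → x = 1 := by
    intro v w hv hw hvw x hx hxv
    obtain ⟨hvE, hvT, hvo⟩ := R_nontriv h S hv
    obtain ⟨hwE, hwT, hwo⟩ := R_nontriv h S hw
    have hwt : Commute w t := (h.comm w (h.le hwE)).symm
    obtain ⟨⟨h1X, h1c⟩, h2X, h2i⟩ := hhalf w (order_two_sq hwo) hwt x hx
    have hwxv : Commute (w * x * w⁻¹) v :=
      (((S.tcomm w hwT v hvT)).mul_left hxv).mul_left (S.tcomm _ ((T : Subgroup G).inv_mem hwT) v hvT)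
    have e1 := kill h S hXodd hinv hXn hall hv hw hvw (Or.inl rfl) h1X (hxv.mul_left hwxv) h1c
    have e2 := kill h S hXodd hinv hXn hall hv hw hvw (s := t * w) (Or.inr rfl) h2X
      (hxv.mul_left hwxv.inv_left) (by
        refine (mul_inv_eq_iff_eq_mul.1 ?_).symm
        rw [show ∀ z, t * w * z * (t * w)⁻¹ = t * (w * z * w⁻¹) * t⁻¹ from fun z => by group, h2i, hinv _ (inv_mem h2X),
          inv_inv])
    have e3 : x = (w * x * w⁻¹)⁻¹ := eq_inv_of_mul_eq_one_left e1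
    have e4 : x = w * x * w⁻¹ := mul_inv_eq_one.1 e2
    exact hodd1 x (hXo x hx) (by nth_rw 1 [e3]; rw [← e4])
  have ha1 : a ≠ 1 := fun e => by have := S.ao; rw [e, orderOf_one] at this; omega
  have hb1 : b ≠ 1 := fun e => by have := S.bo; rw [e, orderOf_one] at this; omega
  refine (eq_bot_iff_forall X).2 fun x hx => ?_
  have hinvA : ∀ u, (u = a ∨ u = b) → u * x * u⁻¹ = x⁻¹ := by
    intro u hu
    have hu' : u = a ∨ u = b ∨ u = a * b := hu.elim Or.inl (fun e => Or.inr (Or.inl e))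
    obtain ⟨huE, -, huo⟩ := R_nontriv h S hu'
    obtain ⟨⟨h1X, h1c⟩, -⟩ := hhalf u (order_two_sq huo) (h.comm u (h.le huE)).symm x hx
    have : x * (u * x * u⁻¹) = 1 := by
      rcases hu with rfl | rfl
      · exact hcv u b (Or.inl rfl) (Or.inr (Or.inl rfl)) S.ne _ h1X h1c
      · exact hcv u a (Or.inr (Or.inl rfl)) (Or.inl rfl) S.ne.symm _ h1X h1c
    exact eq_inv_of_mul_eq_one_right this
  refine hcv (a * b) a (Or.inr (Or.inr rfl)) (Or.inl rfl) (fun e => hb1 (mul_eq_left.1 e)) x hx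
    (mul_inv_eq_iff_eq_mul.1 ?_).symm
  rw [show a * b * x * (a * b)⁻¹ = a * (b * x * b⁻¹) * a⁻¹ by group, hinvA b (Or.inr rfl), ← conj_inv,
    hinvA a (Or.inl rfl), inv_inv]

theorem three_dvd : 8 ∣ Nat.card G ∧ Nat.card (T : Subgroup G) = 8 := by
  classical
  have hd : ∀ v w, v ∈ E₀ → w ∈ E₀ → v ≠ t * w := fun v w hv hw e =>
    h.disj (h.le (by simpa [e] using mul_mem hv (inv_mem hw)))
  have ha1 : a ≠ 1 := fun e => by have := S.ao; rw [e, orderOf_one] at this; omega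
  have hb1 : b ≠ 1 := fun e => by have := S.bo; rw [e, orderOf_one] at this; omega
  have hab1 : a * b ≠ 1 := fun e => by have := ab_order h S; rw [e, orderOf_one] at this; omega
  have e : ((T : Subgroup G) : Set G) = {1, a, b, a * b, t, t * a, t * b, t * (a * b)} := by
    ext x
    constructor
    · intro hx
      obtain ⟨v, hv, r | r⟩ := S.cases x hx <;> rcases hv with e | e | e | e <;> subst e <;> subst r <;> simp
    · simp only [Set.mem_insert_iff, Set.mem_singleton_iff]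
      rintro (rfl | rfl | rfl | rfl | rfl | rfl | rfl | rfl)
      exacts [one_mem _, S.aT, S.bT, (T : Subgroup G).mul_mem S.aT S.bT, S.tT, (T : Subgroup G).mul_mem S.tT S.aT,
        (T : Subgroup G).mul_mem S.tT S.bT, (T : Subgroup G).mul_mem S.tT ((T : Subgroup G).mul_mem S.aT S.bT)]
  have hc : Nat.card (T : Subgroup G) = 8 := by
    show Nat.card ((T : Subgroup G) : Set G) = 8
    rw [Nat.card_coe_set_eq, e, Set.ncard_insert_of_notMem, Set.ncard_insert_of_notMem,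
      Set.ncard_insert_of_notMem, Set.ncard_insert_of_notMem, Set.ncard_insert_of_notMem,
      Set.ncard_insert_of_notMem, Set.ncard_insert_of_notMem, Set.ncard_singleton]
    all_goals
      have q1 := one_mem E₀; have qa := S.aE; have qb := S.bE; have qab := mul_mem S.aE S.bE
      have hanab : a ≠ a * b := fun e => hb1 (mul_eq_left.1 e.symm)
      have hbnab : b ≠ a * b := fun e => ha1 (mul_eq_right.1 e.symm)
      have hmt : ∀ v, v ∈ E₀ → v ≠ t := fun v hv e => h.disj (h.le (e ▸ hv))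
      simp [hd 1 a q1 qa, hd 1 b q1 qb, hd 1 _ q1 qab, hd a a qa qa, hd a b qa qb, hd a _ qa qab,
        hd b a qb qa, hd b b qb qb, hd b _ qb qab, hd _ a qab qa, hd _ b qab qb, hd _ _ qab qab,
        hmt 1 q1, hmt a qa, hmt b qb, hmt _ qab, ha1, hb1, hab1, ha1.symm, hb1.symm, hab1.symm, S.ne,
        hanab, hbnab]
  exact ⟨hc ▸ card_subgroup_dvd_card _, hc⟩

end Sys

/-- a simple group with a strongly embedded subgroup and Sylow 2-subgroups of order 8 has order 504 -/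
theorem card_of_embedded [IsSimpleGroup G] (hna : ¬ IsMulCommutative G) {H : Subgroup G}
    (hH : Cfsg.IsStronglyEmbedded H) (T : Sylow 2 G) (hT : Nat.card (T : Subgroup G) = 8) :
    Nat.card G = 504 := by
  haveI : Fact (Nat.Prime 2) := ⟨Nat.prime_two⟩
  have hG : Nat.card G = 8 * (T : Subgroup G).index := by rw [← hT, Subgroup.card_mul_index]
  have hodd : Odd (T : Subgroup G).index := Nat.odd_iff.2 (Nat.two_dvd_ne_zero.1 T.not_dvd_index)
  have h16 : ¬ 16 ∣ Nat.card G := fun h => by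
    rw [hG, show 16 = 8 * 2 from rfl] at h
    exact Nat.not_even_iff_odd.2 hodd (even_iff_two_dvd.2 ((Nat.mul_dvd_mul_iff_left (by norm_num)).1 h))
  have hna' : ∃ a b : G, a * b ≠ b * a := by
    by_contra hc
    push Not at hc
    exact hna ⟨⟨hc⟩⟩
  rcases Cfsg.Agent.S0222.result hna' H hH with ⟨K, iK, iK', hc2, -, ⟨e⟩⟩ | ⟨-, m, hm, hcard⟩ | ⟨K, iK, iK', q, hq, hqe, hq4, ⟨e⟩⟩
  · letI := iK; letI := iK'; haveI := hc2
    obtain ⟨k, -, hk⟩ := FiniteField.card K 2
    have hg : Nat.card G = Fintype.card K * (Fintype.card K ^ 2 - 1) := by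
      rw [Nat.card_congr e.toEquiv, ← Cfsg.Lib.Known.AutPSL2.card_S (F := K)]
      exact Nat.card_congr (Equiv.ofBijective Cfsg.Lib.GLTwo.prj
        ⟨Cfsg.Lib.GLTwo.prj_injective, QuotientGroup.mk'_surjective _⟩).symm
    have hk3 : (k : ℕ) = 3 := by
      have hdvd : ∀ j, j ≤ (k : ℕ) → 2 ^ j ∣ Nat.card G := fun j hj => by
        rw [hg, hk]; exact Dvd.dvd.mul_right (pow_dvd_pow 2 hj) _
      have hle : (k : ℕ) ≤ 3 := by
        by_contra hlt
        exact h16 (hdvd 4 (by omega))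
      have h8 : (8 : ℕ) ∣ Fintype.card K := by
        have hd : 8 ∣ Fintype.card K * (Fintype.card K ^ 2 - 1) := hg ▸ hG ▸ dvd_mul_right 8 _
        refine Nat.Coprime.dvd_of_dvd_mul_right ?_ hd
        refine (show (8 : ℕ) = 2 ^ 3 from rfl) ▸ (Nat.coprime_two_left.2 ?_).pow_left 3
        refine Nat.Even.sub_odd (Nat.one_le_pow _ _ Fintype.card_pos) ?_ odd_one
        rw [hk]; exact Nat.even_pow.2 ⟨Nat.even_pow.2 ⟨even_two, k.pos.ne'⟩, two_ne_zero⟩
      rw [hk, show (8 : ℕ) = 2 ^ 3 from rfl] at h8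
      exact le_antisymm hle ((Nat.pow_dvd_pow_iff_le_right one_lt_two).1 h8)
    rw [hg, hk, hk3]; norm_num
  · exfalso
    refine h16 ?_
    rw [hcard]
    refine Dvd.dvd.mul_right (Dvd.dvd.mul_right ?_ _) _
    rw [← pow_mul, show (16 : ℕ) = 2 ^ 4 from rfl]
    exact pow_dvd_pow 2 (by omega)
  · letI := iK; letI := iK'
    exfalso
    refine h16 ?_
    have hP := Cfsg.Agent.S0280.result hq 3 (by norm_num)
    rw [← Nat.card_congr e.toEquiv] at hP
    have hco : Nat.Coprime 16 (Nat.gcd 3 (q + 1) * (q + 1)) := by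
      refine (show (16 : ℕ) = 2 ^ 4 from rfl) ▸ (Nat.coprime_two_left.2 (Nat.odd_mul.2
        ⟨Odd.of_dvd_nat (by decide) (Nat.gcd_dvd_left 3 (q + 1)), hqe.add_one⟩)).pow_left 4
    refine hco.dvd_of_dvd_mul_left ?_
    rw [mul_assoc, hP]
    refine Dvd.dvd.mul_right ?_ _
    rw [show (3 * (3 - 1) / 2 : ℕ) = 3 from rfl]
    obtain ⟨p, hp⟩ := CharP.exists K
    haveI := hp
    obtain ⟨m, hpp, hm⟩ := FiniteField.card K p
    have hp2 : p = 2 := ((Nat.prime_dvd_prime_iff_eq Nat.prime_two hpp).1 (Nat.prime_two.dvd_of_dvd_pow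
      (show 2 ∣ p ^ (m : ℕ) by rw [← hm, hq]; exact Dvd.dvd.pow hqe.two_dvd two_ne_zero))).symm
    obtain ⟨i, -, hi⟩ := (Nat.dvd_prime_pow Nat.prime_two).1
      (show q ∣ 2 ^ (m : ℕ) by rw [← hp2, ← hm, hq]; exact dvd_pow_self q two_ne_zero)
    subst hi
    have hi2 : 2 ≤ i := by
      by_contra hlt
      have : 2 ^ i ≤ 2 ^ 1 := Nat.pow_le_pow_right (by norm_num) (by omega)
      omega
    rw [← pow_mul, show (16 : ℕ) = 2 ^ 4 from rfl]
    exact pow_dvd_pow 2 (by omega)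

end Cfsg.Lib.AbCentMax
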