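import Cfsg.Agent.SubdegThree.Psl
import Cfsg.Agent.Classical.PSLTwoDihedral
import Cfsg.Agent.S0276
import Cfsg.Agent.S1167
import Cfsg.Agent.Known.SLTwo.Tori

/-!
Facts on `PSL(2, q)`, `q` odd: involution centralisers and Sylow 2-subgroups.
-/

set_option autoImplicit false
set_option linter.style.haveILetI false
set_option linter.unusedSectionVars false

namespace Cfsg.Lib.AbCentMax

open Matrix Cfsg.Lib.GLTwo
open scoped MatrixGroups

universe u

variable {F : Type u} [Field F] [Fintype F]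

local notation "P₂" => Matrix.ProjectiveSpecialLinearGroup (Fin 2) F

/-- lifts of commuting elements commute when one of them has odd order -/
theorem lift_commute (h2 : (2 : F) ≠ 0) {l k : SL(2, F)} (ho : Odd (orderOf (prj l)))
    (h : Commute (prj l) (prj k)) : Commute l k := by
  have h1 : prj (l * k * l⁻¹ * k⁻¹) = 1 := by
    rw [map_mul, map_mul, map_mul, map_inv, map_inv, h.eq]; group
  rcases (prj_eq_one_iff _).1 h1 with e | e
  · exact mul_inv_eq_iff_eq_mul.1 (mul_inv_eq_one.1 e)
  · exfalso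
    have e' : l * k * l⁻¹ = -k := by rw [← neg_one_mul k, ← e]; group
    have hp : ∀ j : ℕ, l ^ j * k * (l ^ j)⁻¹ = if Even j then k else -k := by
      intro j
      induction j with
      | zero => simp
      | succ j ih =>
        rw [pow_succ', show l * l ^ j * k * (l * l ^ j)⁻¹ = l * (l ^ j * k * (l ^ j)⁻¹) * l⁻¹ by group, ih]
        by_cases hj : Even j <;> simp [hj, Nat.even_add_one, e']
    have hn := hp (orderOf (prj l))
    rw [if_neg (Nat.not_even_iff_odd.2 ho)] at hn
    have hc : l ^ orderOf (prj l) * k * (l ^ orderOf (prj l))⁻¹ = k := by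
      rcases (prj_eq_one_iff _).1 (by rw [map_pow, pow_orderOf_eq_one] : prj (l ^ orderOf (prj l)) = 1) with e2 | e2
      · rw [e2]; simp
      · rw [e2]; simp
    rw [hc] at hn
    have h3 : (-1 : SL(2, F)) = 1 := mul_right_cancel (b := k) (by rw [neg_one_mul, one_mul, ← hn])
    have h4 := congrFun (congrFun (congrArg (fun m : SL(2, F) => (m : Matrix (Fin 2) (Fin 2) F)) h3) 0) 0
    simp at h4
    exact h2 (by linear_combination -h4)

/-- a lift of an involution -/
theorem involution_lift (h2 : (2 : F) ≠ 0) {s : SL(2, F)} (hs : orderOf (prj s) = 2) :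
    Reg s ∧ s * s = -1 ∧ (s : Matrix (Fin 2) (Fin 2) F).trace = 0 := by
  have hne : prj s ≠ 1 := fun e => by rw [e, orderOf_one] at hs; omega
  have hnm : ¬ (s = 1 ∨ s = -1) := fun h => hne ((prj_eq_one_iff _).2 h)
  have hsq : s * s = -1 := by
    refine ((prj_eq_one_iff _).1 ?_).resolve_left fun e => hnm (eq_pm_one_of_sq h2 e)
    have e := pow_orderOf_eq_one (prj s)
    rw [hs, pow_two] at e
    rw [map_mul, e]
  have htr : (s : Matrix (Fin 2) (Fin 2) F).trace = 0 := by
    have := Cfsg.Lib.PSLTwoDihedral.trace_zero_of_sq (g := s)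
      (by simpa using congrArg (fun m : SL(2, F) => (m : Matrix (Fin 2) (Fin 2) F)) hsq)
    rw [trace_fin_two, this, add_neg_cancel]
  refine ⟨⟨nonScalar_of_ne (fun e => hnm (Or.inl e)) (fun e => hnm (Or.inr e)), ?_⟩, hsq, htr⟩
  rw [htr, mul_zero]
  intro h
  have h4 : (2 : F) * 2 = 0 := by linear_combination -h
  exact h2 (mul_self_eq_zero.1 h4)

/-- the centraliser of a nontrivial element of odd order in an involution centraliser lies there -/
theorem psl_fix_of_comm (hodd : Odd (Fintype.card F)) {a x z : P₂} (ha : orderOf a = 2)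
    (hx1 : x ≠ 1) (hx : Odd (orderOf x)) (hxa : Commute x a) (hz : Odd (orderOf z)) (hzx : Commute z x) :
    Commute z a := by
  have h2 := two_ne_zero_of_odd hodd
  obtain ⟨s, rfl⟩ := QuotientGroup.mk'_surjective (Subgroup.center SL(2, F)) a
  obtain ⟨l, rfl⟩ := QuotientGroup.mk'_surjective (Subgroup.center SL(2, F)) x
  obtain ⟨k, rfl⟩ := QuotientGroup.mk'_surjective (Subgroup.center SL(2, F)) z
  obtain ⟨hreg, -, -⟩ := involution_lift h2 ha
  have hls : Commute l s := lift_commute h2 hx hxa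
  have hkl : Commute k l := lift_commute h2 hz hzx
  have hl : NonScalar (l : Matrix (Fin 2) (Fin 2) F) :=
    nonScalar_of_ne (fun e => hx1 ((prj_eq_one_iff _).2 (Or.inl e)))
      (fun e => hx1 ((prj_eq_one_iff _).2 (Or.inr e)))
  have hk : k ∈ Subgroup.centralizer ({s} : Set SL(2, F)) := by
    rw [← cen_eq_of_mem hreg.1 (Subgroup.mem_centralizer_singleton_iff.2 hls.eq) hl]
    exact Subgroup.mem_centralizer_singleton_iff.2 hkl.eq
  exact (show Commute k s from Subgroup.mem_centralizer_singleton_iff.1 hk).map prj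

/-- a commuting involution inverts the elements of odd order of an involution centraliser -/
theorem psl_inverts (hodd : Odd (Fintype.card F)) {a b y : P₂} (ha : orderOf a = 2) (hb : orderOf b = 2)
    (hab : a ≠ b) (hcomm : Commute a b) (hy : Odd (orderOf y)) (hya : Commute y a) : b * y * b⁻¹ = y⁻¹ := by
  have h2 := two_ne_zero_of_odd hodd
  obtain ⟨s, rfl⟩ := QuotientGroup.mk'_surjective (Subgroup.center SL(2, F)) a
  obtain ⟨c, rfl⟩ := QuotientGroup.mk'_surjective (Subgroup.center SL(2, F)) b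
  obtain ⟨k, rfl⟩ := QuotientGroup.mk'_surjective (Subgroup.center SL(2, F)) y
  obtain ⟨hreg, hssq, hstr⟩ := involution_lift h2 ha
  obtain ⟨-, -, hctr⟩ := involution_lift h2 hb
  have hks : k ∈ Subgroup.centralizer ({s} : Set SL(2, F)) :=
    Subgroup.mem_centralizer_singleton_iff.2 (lift_commute h2 hy hya).eq
  have hsinv : s⁻¹ = -s := inv_eq_of_mul_eq_one_right (by rw [mul_neg, hssq, neg_neg])
  have hcC : c ∉ Subgroup.centralizer ({s} : Set SL(2, F)) := fun h => by
    rcases hreg.eq_or_inv h2 h (hctr.trans hstr.symm) with e | e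
    · exact hab (by rw [e])
    · refine hab (mul_inv_eq_one.1 ?_).symm
      show prj c * (prj s)⁻¹ = 1
      rw [e, ← map_inv, ← map_mul, hsinv, neg_mul_neg, hssq]
      exact (prj_eq_one_iff _).2 (Or.inr rfl)
  have hcs : c * s * c⁻¹ = s⁻¹ := by
    have h1 : prj (c * s * c⁻¹ * s⁻¹) = 1 := by
      rw [map_mul, map_mul, map_mul, map_inv, map_inv]
      change prj c * prj s * (prj c)⁻¹ * (prj s)⁻¹ = 1
      rw [show prj c * prj s = prj s * prj c from hcomm.symm.eq]; group
    rcases (prj_eq_one_iff _).1 h1 with e | e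
    · exact absurd (Subgroup.mem_centralizer_singleton_iff.2 (mul_inv_eq_iff_eq_mul.1 (mul_inv_eq_one.1 e))) hcC
    · rw [hsinv, ← neg_one_mul s, ← e]; group
  have h := hreg.inverts h2 ((hreg.mem_normalizer_iff h2).2 (Or.inr hcs)) hcC hks
  show prj c * prj k * (prj c)⁻¹ = (prj k)⁻¹
  rw [← map_inv, ← map_mul, ← map_mul, ← map_inv, h]

/-- an element of odd order commuting with two commuting involutions is trivial -/
theorem psl_eq_one_of_comm (hodd : Odd (Fintype.card F)) {a b y : P₂} (ha : orderOf a = 2)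
    (hb : orderOf b = 2) (hab : a ≠ b) (hcomm : Commute a b) (hy : Odd (orderOf y)) (hya : Commute y a)
    (hyb : Commute y b) : y = 1 := by
  have h := psl_inverts hodd ha hb hab hcomm hy hya
  rw [← hyb.eq, mul_inv_cancel_right] at h
  have h2 : orderOf y ∣ 2 := orderOf_dvd_of_pow_eq_one (by
    rw [pow_two]; nth_rw 1 [h]; exact inv_mul_cancel y)
  rcases (Nat.dvd_prime Nat.prime_two).1 h2 with e | e
  · exact orderOf_eq_one_iff.1 e
  · rw [e] at hy; exact absurd hy (by decide)

/-- an abelian Sylow 2-subgroup is a four-group -/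
theorem psl_sylow_klein (hodd : Odd (Fintype.card F)) (S : Sylow 2 P₂)
    (hab : ∀ x ∈ (S : Subgroup P₂), ∀ y ∈ (S : Subgroup P₂), x * y = y * x) :
    IsKleinFour (S : Subgroup P₂) := by
  have ho : Fintype.card F % 2 = 1 := Nat.odd_iff.1 hodd
  by_cases h8 : Fintype.card F % 8 = 3 ∨ Fintype.card F % 8 = 5
  · exact Cfsg.Agent.S0276.result rfl h8 S
  exfalso
  have h16 : 16 ∣ Fintype.card F ^ 2 - 1 := by
    obtain ⟨s, hs⟩ : ∃ s, Fintype.card F = 8 * s + 1 ∨ Fintype.card F = 8 * s + 7 :=
      ⟨Fintype.card F / 8, by omega⟩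
    rcases hs with e | e <;> rw [e]
    · exact ⟨s * (4 * s + 1), by rw [Nat.sub_eq_iff_eq_add (Nat.one_le_pow _ _ (by omega))]; ring⟩
    · exact ⟨(4 * s + 3) * (s + 1), by rw [Nat.sub_eq_iff_eq_add (Nat.one_le_pow _ _ (by omega))]; ring⟩
  obtain ⟨c, t, n, h⟩ := Cfsg.Lib.PSLTwoDihedral.exists_isGen ho h16 S
  have hK : ringChar F ≠ 2 := fun e => by
    have := FiniteField.even_card_of_char_two e; omega
  have hc : c ∈ (S : Subgroup P₂) := h.sup ▸ Subgroup.mem_sup_left (Subgroup.mem_zpowers c)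
  have h1 := Cfsg.Agent.S1167.psl_abelian_sylow_exponent hK S hab c hc
  have h4 : 4 ∣ orderOf c := by
    rw [h.order]; exact (show (4 : ℕ) = 2 ^ 2 from rfl) ▸ pow_dvd_pow 2 h.two_le
  have := Nat.le_of_dvd two_pos (h4.trans (orderOf_dvd_of_pow_eq_one (by rw [pow_two, h1])))
  omega

end Cfsg.Lib.AbCentMax
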