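import Cfsg.Agent.AbCentMax.PSLFacts
import Cfsg.Agent.S0215

/-!
The centraliser `⟨t⟩ × E` with `PSL(2, q) ≤ E ≤ Aut PSL(2, q)` and an abelian Sylow 2-subgroup.
-/

set_option autoImplicit false
set_option linter.style.haveILetI false
set_option linter.unusedSectionVars false

namespace Cfsg.Lib.AbCentMax

open Subgroup

universe u v

variable {G : Type u} [Group G] [Finite G]

/-- The hypotheses on the centraliser of `t`. -/
structure Hyp (t : G) (E E₀ : Subgroup G) (F : Type v) [Field F] [Fintype F] : Prop where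
  ord : orderOf t = 2
  comm : ∀ e ∈ E, Commute t e
  split : ∀ x : G, Commute x t → ∃ e ∈ E, x = e ∨ x = t * e
  disj : t ∉ E
  le : E₀ ≤ E
  norm : ∀ e ∈ E, ∀ x ∈ E₀, e * x * e⁻¹ ∈ E₀
  faith : ∀ e ∈ E, (∀ x ∈ E₀, Commute e x) → e = 1
  odd : Odd (Fintype.card F)
  iso : Nonempty (E₀ ≃* Matrix.ProjectiveSpecialLinearGroup (Fin 2) F)

variable {t : G} {E E₀ : Subgroup G} {F : Type v} [Field F] [Fintype F] (h : Hyp t E E₀ F)
include h

theorem Hyp.tt : t * t = 1 := by rw [← pow_two, ← h.ord, pow_orderOf_eq_one]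

theorem Hyp.t_inv : t⁻¹ = t := inv_eq_of_mul_eq_one_right h.tt

theorem Hyp.t_ne : t ≠ 1 := fun e => by
  have := h.ord; rw [e, orderOf_one] at this; omega

theorem Hyp.odd_mem_E {x : G} (hx : Odd (orderOf x)) (hc : Commute x t) : x ∈ E := by
  obtain ⟨e, he, rfl | rfl⟩ := h.split x hc
  · exact he
  · exfalso
    have h1 : t ^ orderOf (t * e) * e ^ orderOf (t * e) = 1 := by
      rw [← (h.comm e he).mul_pow, pow_orderOf_eq_one]
    obtain ⟨k, hk⟩ := hx
    rw [show t ^ orderOf (t * e) = t by rw [hk, pow_succ, pow_mul, pow_two, h.tt, one_pow, one_mul]] at h1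
    exact h.disj (by rw [eq_inv_of_mul_eq_one_left h1]; exact inv_mem (pow_mem he _))

theorem Hyp.norm' {e x : G} (he : e ∈ E) (hx : x ∈ E₀) : e⁻¹ * x * e ∈ E₀ := by
  simpa using h.norm e⁻¹ (inv_mem he) x hx

theorem Hyp.fix_of_comm {a x z : G} (haE : a ∈ E₀) (ha : orderOf a = 2) (hxE : x ∈ E₀) (hx1 : x ≠ 1)
    (hx : Odd (orderOf x)) (hxa : Commute x a) (hzE : z ∈ E₀) (hz : Odd (orderOf z)) (hzx : Commute z x) :
    Commute z a := by
  obtain ⟨f⟩ := h.iso
  have ho : ∀ w : E₀, orderOf (f w) = orderOf (w : G) := fun w => by rw [f.orderOf_eq, orderOf_coe]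
  have hc := psl_fix_of_comm h.odd (a := f ⟨a, haE⟩) (x := f ⟨x, hxE⟩) (z := f ⟨z, hzE⟩)
    (by rw [ho]; exact ha) (fun e => hx1 (congrArg Subtype.val (f.injective (e.trans f.map_one.symm))))
    (by rw [ho]; exact hx) ((show Commute (⟨x, hxE⟩ : E₀) ⟨a, haE⟩ from Subtype.ext hxa).map f)
    (by rw [ho]; exact hz) ((show Commute (⟨z, hzE⟩ : E₀) ⟨x, hxE⟩ from Subtype.ext hzx).map f)
  exact congrArg Subtype.val (f.injective (by rw [map_mul, map_mul]; exact hc) :
    (⟨z, hzE⟩ : E₀) * ⟨a, haE⟩ = ⟨a, haE⟩ * ⟨z, hzE⟩)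

theorem Hyp.inverts {a b y : G} (haE : a ∈ E₀) (ha : orderOf a = 2) (hbE : b ∈ E₀) (hb : orderOf b = 2)
    (hab : a ≠ b) (hc : Commute a b) (hyE : y ∈ E₀) (hy : Odd (orderOf y)) (hya : Commute y a) :
    b * y * b⁻¹ = y⁻¹ := by
  obtain ⟨f⟩ := h.iso
  have ho : ∀ w : E₀, orderOf (f w) = orderOf (w : G) := fun w => by rw [f.orderOf_eq, orderOf_coe]
  have := psl_inverts h.odd (a := f ⟨a, haE⟩) (b := f ⟨b, hbE⟩) (y := f ⟨y, hyE⟩)
    (by rw [ho]; exact ha) (by rw [ho]; exact hb) (fun e => hab (congrArg Subtype.val (f.injective e)))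
    ((show Commute (⟨a, haE⟩ : E₀) ⟨b, hbE⟩ from Subtype.ext hc).map f)
    (by rw [ho]; exact hy) ((show Commute (⟨y, hyE⟩ : E₀) ⟨a, haE⟩ from Subtype.ext hya).map f)
  rw [← map_inv, ← map_inv, ← map_mul, ← map_mul] at this
  exact congrArg Subtype.val (f.injective this)

theorem Hyp.eq_one_of_comm {a b y : G} (haE : a ∈ E₀) (ha : orderOf a = 2) (hbE : b ∈ E₀) (hb : orderOf b = 2)
    (hab : a ≠ b) (hc : Commute a b) (hyE : y ∈ E₀) (hy : Odd (orderOf y)) (hya : Commute y a)
    (hyb : Commute y b) : y = 1 := by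
  have h1 := h.inverts haE ha hbE hb hab hc hyE hy hya
  rw [← hyb.eq, mul_inv_cancel_right] at h1
  have h2 : orderOf y ∣ 2 := orderOf_dvd_of_pow_eq_one (by
    rw [pow_two]; nth_rw 1 [h1]; exact inv_mul_cancel y)
  rcases (Nat.dvd_prime Nat.prime_two).1 h2 with e | e
  · exact orderOf_eq_one_iff.1 e
  · rw [e] at hy; exact absurd hy (by decide)

theorem Hyp.conj {a b : G} (haE : a ∈ E₀) (ha : orderOf a = 2) (hbE : b ∈ E₀) (hb : orderOf b = 2) :
    ∃ g ∈ E₀, g * a * g⁻¹ = b := by
  obtain ⟨f⟩ := h.iso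
  obtain ⟨p, hp⟩ := isConj_iff.1 (Cfsg.Lib.PSLTwoDihedral.involution_conj (Nat.odd_iff.1 h.odd)
    (u := f ⟨a, haE⟩) (v := f ⟨b, hbE⟩) (by rw [f.orderOf_eq, orderOf_mk]; exact ha)
    (by rw [f.orderOf_eq, orderOf_mk]; exact hb))
  obtain ⟨g, rfl⟩ := f.surjective p
  rw [← map_inv, ← map_mul, ← map_mul] at hp
  exact ⟨g, g.2, congrArg Subtype.val (f.injective hp)⟩

/-- `E₀` has no normal subgroup of odd order -/
theorem Hyp.odd_normal {N : Subgroup G} (hN : N ≤ E₀) (hodd : Odd (Nat.card N))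
    (hn : ∀ g ∈ E₀, ∀ x ∈ N, g * x * g⁻¹ ∈ N) {a b : G} (haE : a ∈ E₀) (ha : orderOf a = 2) (hbE : b ∈ E₀)
    (hb : orderOf b = 2) (hab : a ≠ b) (hc : Commute a b) : N = ⊥ := by
  obtain ⟨f⟩ := h.iso
  by_cases hq : 3 < Fintype.card F
  · haveI : IsSimpleGroup (Matrix.ProjectiveSpecialLinearGroup (Fin 2) F) :=
      Matrix.ProjectiveSpecialLinearGroup.rank_two_simple (by rw [Nat.card_eq_fintype_card]; omega)
    haveI : Nontrivial E₀ := f.toEquiv.nontrivial
    haveI : IsSimpleGroup E₀ := IsSimpleGroup.isSimpleGroup_of_surjective f.symm.toMonoidHom f.symm.surjective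
    haveI : (N.subgroupOf E₀).Normal := ⟨fun x hx g => hn g g.2 x hx⟩
    rcases IsSimpleGroup.eq_bot_or_eq_top_of_normal (N.subgroupOf E₀) inferInstance with e | e
    · rw [subgroupOf_eq_bot, disjoint_iff] at e
      rwa [inf_eq_left.2 hN] at e
    · exfalso
      have hEN : E₀ ≤ N := subgroupOf_eq_top.1 e
      have := hodd.of_dvd_nat (orderOf_dvd_natCard (G := N) ⟨a, hEN haE⟩)
      rw [orderOf_mk, ha] at this
      exact absurd this (by decide)
  · have hq3 : Fintype.card F = 3 := by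
      have := Nat.odd_iff.1 h.odd
      have := Fintype.one_lt_card (α := F)
      omega
    have h12 : Nat.card E₀ = 12 := by
      have := Cfsg.Lib.PSLTwoDihedral.card_P (F := F) (Nat.odd_iff.1 h.odd)
      rw [← Nat.card_congr f.toEquiv, hq3] at this
      omega
    have hd : Nat.card N ∣ 3 := (Nat.Coprime.dvd_of_dvd_mul_left
      ((Nat.coprime_two_right.2 hodd).pow_right 2) (show Nat.card N ∣ 2 ^ 2 * 3 by
        have := card_dvd_of_le hN; rw [h12] at this; exact this))
    rcases (Nat.dvd_prime Nat.prime_three).1 hd with e | e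
    · exact Subgroup.card_eq_one.1 e
    exfalso
    haveI : Fact (Nat.Prime 3) := ⟨Nat.prime_three⟩
    obtain ⟨⟨x, hx⟩, hx1⟩ : ∃ x : N, x ≠ 1 := by
      haveI : Nontrivial N := Finite.one_lt_card_iff_nontrivial.1 (by omega)
      exact exists_ne 1
    have hx1' : x ≠ 1 := fun e => hx1 (Subtype.ext e)
    have hxo : orderOf x = 3 := orderOf_eq_prime (by
      have := pow_card_eq_one' (G := N) (x := ⟨x, hx⟩)
      rw [e] at this; exact congrArg Subtype.val this) hx1'
    have hcases : ∀ y ∈ N, y ≠ 1 → y = x ∨ y = x⁻¹ := by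
      intro y hy hy1
      have hz : zpowers x = N := Subgroup.eq_of_le_of_card_ge (zpowers_le.2 hx) (by rw [Nat.card_zpowers, hxo, e])
      rw [← hz] at hy
      obtain ⟨i, rfl⟩ := hy
      have hi : x ^ i = x ^ (i % 3) := by
        rw [← zpow_mod_orderOf, hxo]; rfl
      have : i % 3 = 0 ∨ i % 3 = 1 ∨ i % 3 = 2 := by omega
      rcases this with j | j | j
      · exact absurd (by simp only; rw [hi, j, zpow_zero]) hy1
      · left; simp only; rw [hi, j, zpow_one]
      · right; simp only; rw [hi, j]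
        refine eq_inv_of_mul_eq_one_left ?_
        rw [← zpow_one x, ← zpow_mul, ← zpow_add, show (1 : ℤ) * 2 + 1 = ((3 : ℕ) : ℤ) from rfl, zpow_natCast, ← hxo,
          pow_orderOf_eq_one]
    have hodd3 : Odd (orderOf x) := by rw [hxo]; decide
    have hne2 : x ≠ x⁻¹ := fun e' => by
      have : orderOf x ∣ 2 := orderOf_dvd_of_pow_eq_one (by rw [pow_two]; nth_rw 1 [e']; exact inv_mul_cancel x)
      rw [hxo] at this; omega
    have hsign : ∀ g ∈ E₀, g * x * g⁻¹ = x ∨ g * x * g⁻¹ = x⁻¹ := fun g hg =>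
      hcases _ (hn g hg x hx) fun e' => hx1' (by
        rwa [mul_inv_eq_one, mul_eq_left] at e')
    rcases hsign a haE with e1 | e1
    · -- `a` centralises
      have hxa : Commute x a := (mul_inv_eq_iff_eq_mul.1 e1).symm
      have hbi := h.inverts haE ha hbE hb hab hc (hN hx) hodd3 hxa
      obtain ⟨g, hg, hga⟩ := h.conj haE ha hbE hb
      have hcb : Commute (g * x * g⁻¹) b := by rw [← hga]; exact hxa.map (MulAut.conj g).toMonoidHom
      have : Commute x b := by
        rcases hsign g hg with e2 | e2 <;> rw [e2] at hcb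
        · exact hcb
        · exact inv_inv x ▸ hcb.inv_left
      rw [← this.eq, mul_inv_cancel_right] at hbi
      exact hne2 hbi
    · rcases hsign b hbE with e2 | e2
      · have hxb : Commute x b := (mul_inv_eq_iff_eq_mul.1 e2).symm
        obtain ⟨g, hg, hga⟩ := h.conj hbE hb haE ha
        have hca : Commute (g * x * g⁻¹) a := by rw [← hga]; exact hxb.map (MulAut.conj g).toMonoidHom
        have : Commute x a := by
          rcases hsign g hg with e3 | e3 <;> rw [e3] at hca
          · exact hca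
          · exact inv_inv x ▸ hca.inv_left
        rw [← this.eq, mul_inv_cancel_right] at e1
        exact hne2 e1
      · -- the product centralises
        have hxab : Commute x (a * b) := by
          refine (mul_inv_eq_iff_eq_mul.1 ?_).symm
          rw [show a * b * x * (a * b)⁻¹ = a * (b * x * b⁻¹) * a⁻¹ by group, e2, ← conj_inv, e1, inv_inv]
        have hab2 : orderOf (a * b) = 2 := orderOf_eq_prime
          (by rw [hc.mul_pow, show a ^ 2 = 1 by rw [← ha, pow_orderOf_eq_one],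
            show b ^ 2 = 1 by rw [← hb, pow_orderOf_eq_one], one_mul])
          (fun e' => hab (by
            rw [eq_inv_of_mul_eq_one_left e']
            exact inv_eq_of_mul_eq_one_right (by rw [← pow_two, ← hb, pow_orderOf_eq_one])))
        obtain ⟨g, hg, hga⟩ := h.conj (mul_mem haE hbE) hab2 haE ha
        have hca : Commute (g * x * g⁻¹) a := by rw [← hga]; exact hxab.map (MulAut.conj g).toMonoidHom
        have : Commute x a := by
          rcases hsign g hg with e3 | e3 <;> rw [e3] at hca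
          · exact hca
          · exact inv_inv x ▸ hca.inv_left
        rw [← this.eq, mul_inv_cancel_right] at e1
        exact hne2 e1

end Cfsg.Lib.AbCentMax
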